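import Mathlib

/-!
The 2-part of `|GL_{2m}(q)|` for `q` odd and `m` a power of two.
-/

set_option autoImplicit false

namespace CfsgLib.PronormalPSL

open Finset

/-- The 2-adic valuation. -/
abbrev v2 (n : ℕ) : ℕ := n.factorization 2

theorem pow_dvd_iff_le_v2 {n a : ℕ} (hn : n ≠ 0) : 2 ^ a ∣ n ↔ a ≤ v2 n :=
  Nat.prime_two.pow_dvd_iff_le_factorization hn

theorem v2_eq_zero_of_odd {n : ℕ} (h : Odd n) : v2 n = 0 :=
  Nat.factorization_eq_zero_of_not_dvd fun hd => by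
    rw [Nat.odd_iff] at h; omega

theorem v2_mul {a b : ℕ} (ha : a ≠ 0) (hb : b ≠ 0) : v2 (a * b) = v2 a + v2 b := by
  show (a * b).factorization 2 = _
  rw [Nat.factorization_mul ha hb, Finsupp.add_apply]

variable {q : ℕ}

theorem pow_sub_one_ne_zero (hq : 2 ≤ q) {i : ℕ} (hi : i ≠ 0) : q ^ i - 1 ≠ 0 := by
  have := Nat.one_lt_pow hi (by omega : 1 < q)
  omega

theorem sq_sub_one_eq (x : ℕ) : x ^ 2 - 1 = (x - 1) * (x + 1) := by
  rw [mul_comm, ← one_pow 2, Nat.sq_sub_sq, one_pow]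

/-- An odd exponent does not change the valuation. -/
theorem v2_pow_odd_sub_one {x r : ℕ} (hx : Odd x) (hx2 : 2 ≤ x) (hr : Odd r) :
    v2 (x ^ r - 1) = v2 (x - 1) := by
  obtain ⟨g, hg⟩ : x - 1 ∣ x ^ r - 1 := by simpa using Nat.sub_dvd_pow_sub_pow x 1 r
  have hgs : g = ∑ i ∈ range r, x ^ i := by
    refine Nat.eq_of_mul_eq_mul_left (show 0 < x - 1 by omega) ?_
    rw [← hg, mul_comm, Nat.geomSum_eq hx2, Nat.div_mul_cancel (by simpa using Nat.sub_dvd_pow_sub_pow x 1 r)]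
  have hgo : Odd g := by
    rw [hgs, Finset.odd_sum_iff_odd_card_odd,
      Finset.filter_true_of_mem (fun i _ => hx.pow), card_range]
    exact hr
  have hg0 : g ≠ 0 := by rintro rfl; simp at hgo
  rw [hg, v2_mul (by omega) hg0, v2_eq_zero_of_odd hgo, add_zero]

theorem v2_pow_sub_one_lt (hq : Odd q) (hq2 : 2 ≤ q) {k i : ℕ} (hi0 : i ≠ 0) (hi : i < 2 ^ k) :
    v2 (q ^ i - 1) < v2 (q ^ 2 ^ k - 1) := by
  set j := i.factorization 2
  have hr : Odd (i / 2 ^ j) := by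
    rw [Nat.odd_iff]
    have := Nat.not_dvd_ordCompl Nat.prime_two hi0
    show i / 2 ^ i.factorization 2 % 2 = 1
    omega
  have hQ2 : 2 ≤ q ^ 2 ^ j := le_trans hq2 (Nat.le_self_pow (pow_ne_zero j two_ne_zero) q)
  have h1 : v2 (q ^ i - 1) = v2 (q ^ 2 ^ j - 1) := by
    conv_lhs => rw [← Nat.ordProj_mul_ordCompl_eq_self i 2]
    rw [pow_mul]
    exact v2_pow_odd_sub_one hq.pow hQ2 hr
  have hjk : j < k := by
    by_contra h
    have h3 := Nat.pow_le_pow_right (show 0 < 2 by omega) (not_lt.1 h)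
    have h4 := Nat.le_of_dvd (Nat.pos_of_ne_zero hi0) (Nat.ordProj_dvd i 2)
    change 2 ^ j ≤ i at h4
    omega
  have h2 : v2 (q ^ 2 ^ j - 1) < v2 (q ^ 2 ^ (j + 1) - 1) := by
    rw [show q ^ 2 ^ (j + 1) = (q ^ 2 ^ j) ^ 2 by rw [← pow_mul, pow_succ], sq_sub_one_eq,
      v2_mul (by omega) (by omega)]
    have : 1 ≤ v2 (q ^ 2 ^ j + 1) :=
      (pow_dvd_iff_le_v2 (Nat.succ_ne_zero _)).1 (by rw [pow_one]; exact (hq.pow.add_one).two_dvd)
    omega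
  rw [h1]
  refine lt_of_lt_of_le h2 ((pow_dvd_iff_le_v2 (pow_sub_one_ne_zero hq2 (by positivity))).1
    ((Nat.ordProj_dvd _ 2).trans ?_))
  obtain ⟨c, hc⟩ : 2 ^ (j + 1) ∣ 2 ^ k := pow_dvd_pow 2 hjk
  rw [hc, pow_mul]
  simpa using Nat.sub_dvd_pow_sub_pow (q ^ 2 ^ (j + 1)) 1 c

theorem v2_pow_add_sub_one (hq : Odd q) (hq2 : 2 ≤ q) {k i : ℕ} (hi0 : i ≠ 0) (hi : i < 2 ^ k) :
    v2 (q ^ (2 ^ k + i) - 1) = v2 (q ^ i - 1) := by
  have hlt := v2_pow_sub_one_lt hq hq2 hi0 hi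
  have hne := pow_sub_one_ne_zero hq2 hi0
  have hsum : q ^ (2 ^ k + i) - 1 = q ^ i * (q ^ 2 ^ k - 1) + (q ^ i - 1) := by
    have h1 := Nat.one_le_pow i q (by omega)
    have h2 : q ^ i ≤ q ^ i * q ^ 2 ^ k := Nat.le_mul_of_pos_right _ (by positivity)
    rw [pow_add, Nat.mul_sub, mul_one, mul_comm (q ^ 2 ^ k)]
    omega
  have hne' := pow_sub_one_ne_zero hq2 (i := 2 ^ k + i) (by omega)
  have hbig : ∀ a, a ≤ v2 (q ^ i - 1) + 1 → 2 ^ a ∣ q ^ i * (q ^ 2 ^ k - 1) := fun a ha =>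
    Dvd.dvd.mul_left ((pow_dvd_iff_le_v2 (pow_sub_one_ne_zero hq2 (by positivity))).2 (by omega)) _
  refine le_antisymm ?_ ?_
  · by_contra h
    have h1 : 2 ^ (v2 (q ^ i - 1) + 1) ∣ q ^ (2 ^ k + i) - 1 := (pow_dvd_iff_le_v2 hne').2 (by omega)
    rw [hsum, ← Nat.dvd_add_iff_right (hbig _ le_rfl), pow_dvd_iff_le_v2 hne] at h1
    omega
  · rw [← pow_dvd_iff_le_v2 hne', hsum]
    exact dvd_add (hbig _ (by omega)) ((pow_dvd_iff_le_v2 hne).2 le_rfl)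

theorem v2_pow_two_mul_sub_one (hq : Odd q) (hq2 : 2 ≤ q) {m : ℕ} (hm : Even m) (hm0 : m ≠ 0) :
    v2 (q ^ (2 * m) - 1) = v2 (q ^ m - 1) + 1 := by
  rw [mul_comm 2 m, pow_mul, sq_sub_one_eq, v2_mul (pow_sub_one_ne_zero hq2 hm0) (by omega)]
  congr 1
  obtain ⟨t, ht⟩ := hm
  obtain ⟨s, hs⟩ := hq.pow (n := t)
  have h4 : q ^ m + 1 = 2 * (2 * (s * s + s) + 1) := by rw [ht, pow_add, hs]; ring
  rw [h4, v2_mul (by omega) (by omega), v2_eq_zero_of_odd ⟨_, rfl⟩]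
  simp [v2, Nat.Prime.factorization Nat.prime_two]

/-- The exponent of 2 in the order of `GL_n(q)`. -/
def glExp (q n : ℕ) : ℕ := ∑ i ∈ range n, v2 (q ^ (i + 1) - 1)

theorem v2_prod_gl (hq : Odd q) (hq2 : 2 ≤ q) (n : ℕ) :
    v2 (∏ i : Fin n, (q ^ n - q ^ (i : ℕ))) = glExp q n := by
  have hne : ∀ i : Fin n, q ^ n - q ^ (i : ℕ) ≠ 0 := fun i => by
    have := Nat.pow_lt_pow_right (show 1 < q by omega) i.2
    omega
  show (∏ i : Fin n, (q ^ n - q ^ (i : ℕ))).factorization 2 = _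
  rw [Nat.factorization_prod fun i _ => hne i, Finsupp.finsetSum_apply,
    Fin.sum_univ_eq_sum_range (fun i => (q ^ n - q ^ i).factorization 2), glExp, ← Finset.sum_range_reflect]
  refine sum_congr rfl fun i hi => ?_
  rw [mem_range] at hi
  have e : q ^ n - q ^ (n - 1 - i) = q ^ (n - 1 - i) * (q ^ (i + 1) - 1) := by
    rw [Nat.mul_sub, mul_one, ← pow_add]; congr 2; omega
  show v2 _ = _
  rw [e, v2_mul (by positivity) (pow_sub_one_ne_zero hq2 (by omega)), v2_eq_zero_of_odd hq.pow, zero_add]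

theorem glExp_double (hq : Odd q) (hq2 : 2 ≤ q) {k : ℕ} (hk : 1 ≤ k) :
    glExp q (2 * 2 ^ k) = 2 * glExp q (2 ^ k) + 1 := by
  obtain ⟨t, ht⟩ : ∃ t, 2 ^ k = t + 1 := ⟨2 ^ k - 1, by have := Nat.one_le_two_pow (n := k); omega⟩
  unfold glExp
  rw [two_mul (2 ^ k), sum_range_add]
  have h : ∑ i ∈ range (2 ^ k), v2 (q ^ (2 ^ k + i + 1) - 1) =
      ∑ i ∈ range (2 ^ k), v2 (q ^ (i + 1) - 1) + 1 := by
    rw [ht, sum_range_succ, sum_range_succ, ← ht]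
    have heq : ∑ i ∈ range t, v2 (q ^ (2 ^ k + i + 1) - 1) = ∑ i ∈ range t, v2 (q ^ (i + 1) - 1) :=
      sum_congr rfl fun i hi => by
        rw [mem_range] at hi
        rw [add_assoc]
        exact v2_pow_add_sub_one hq hq2 (by omega) (by omega)
    rw [heq, show 2 ^ k + t + 1 = 2 * (t + 1) by omega,
      v2_pow_two_mul_sub_one hq hq2 (by rw [← ht]; exact (Nat.even_pow' (by omega)).2 even_two) (by omega)]
    rw [ht]
    omega
  omega

end CfsgLib.PronormalPSL
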