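import Mathlib
import Cfsg.Agent.Lib.PronormalPSL.Criterion
import Cfsg.Agent.Lib.Fusion.SimplePSL
import Cfsg.Agent.Lib.GLFlags.Bruhat

/-!
Overgroups of the unitriangular group in `SL_n(q)` are normalised by the Borel subgroup; so subgroups of
`PSL_n(q)` of index prime to the characteristic are pronormal.
-/

set_option autoImplicit false
set_option linter.unusedSectionVars false

namespace CfsgLib.PronormalPSL

open Matrix CfsgLib.AutPSL CfsgLib.FusionPSL

theorem related_perm {n : ℕ} {R : Fin n → Fin n → Prop} (hR : Equivalence R) (σ : Equiv.Perm (Fin n))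
    (h : ∀ i j, i < j → σ j < σ i → R (σ i) (σ j)) : ∀ x, R (σ x) x := by
  induction hM : n * (n * n) - ∑ i : Fin n, (i : ℕ) * (σ i : ℕ) using Nat.strong_induction_on generalizing σ with
  | _ M ih =>
    match n, σ with
    | 0, _ => exact fun x => x.elim0
    | m + 1, σ =>
      by_cases hmono : StrictMono σ
      · intro x
        have hid : σ x = x := congrFun ((StrictMono.range_inj hmono strictMono_id).1
          (by simp [σ.surjective.range_eq])) x
        rw [hid]; exact hR.refl x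
      · rw [Fin.strictMono_iff_lt_succ] at hmono
        push Not at hmono
        obtain ⟨i, hi⟩ := hmono
        set a := i.castSucc
        set b := i.succ
        have hab : a < b := Fin.castSucc_lt_succ
        have hlt : σ b < σ a := lt_of_le_of_ne hi fun e => hab.ne' (σ.injective e)
        set σ' := σ * Equiv.swap a b with hσ'
        have ea : σ' a = σ b := by simp [hσ']
        have eb : σ' b = σ a := by simp [hσ']
        have eo : ∀ x, x ≠ a → x ≠ b → σ' x = σ x := fun x h1 h2 => by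
          simp [hσ', Equiv.swap_apply_of_ne_of_ne h1 h2]
        have hinv : ∀ x y, x < y → σ' y < σ' x → R (σ' x) (σ' y) := by
          intro x y hxy hyx
          have hab' : (b : ℕ) = (a : ℕ) + 1 := by simp [a, b]
          by_cases hxa : x = a
          · subst hxa
            by_cases hyb : y = b
            · subst hyb; rw [ea, eb] at hyx; exact absurd hyx (not_lt.2 hlt.le)
            · rw [ea, eo y hxy.ne' hyb] at hyx ⊢
              exact h b y (by rw [Fin.lt_def] at hxy ⊢; have := Fin.val_ne_of_ne hyb; omega) hyx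
          by_cases hxb : x = b
          · subst hxb
            have hya : y ≠ a := (hab.trans hxy).ne'
            rw [eb, eo y hya hxy.ne'] at hyx ⊢
            exact h a y (hab.trans hxy) hyx
          rw [eo x hxa hxb] at hyx ⊢
          by_cases hya : y = a
          · subst hya; rw [ea] at hyx ⊢
            exact h x b (hxy.trans hab) hyx
          by_cases hyb : y = b
          · subst hyb; rw [eb] at hyx ⊢
            exact h x a (by rw [Fin.lt_def] at hxy ⊢; have := Fin.val_ne_of_ne hxa; omega) hyx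
          rw [eo y hya hyb] at hyx ⊢
          exact h x y hxy hyx
        have hbound : ∀ τ : Equiv.Perm (Fin (m + 1)), ∑ i : Fin (m + 1), (i : ℕ) * (τ i : ℕ) ≤
            (m + 1) * ((m + 1) * (m + 1)) := fun τ => by
          refine (Finset.sum_le_card_nsmul Finset.univ _ ((m + 1) * (m + 1)) fun i _ =>
            Nat.mul_le_mul i.2.le (τ i).2.le).trans ?_
          simp
        have hsum : ∑ i : Fin (m + 1), (i : ℕ) * (σ i : ℕ) < ∑ i : Fin (m + 1), (i : ℕ) * (σ' i : ℕ) := by
          have hsplit : ∀ τ : Equiv.Perm (Fin (m + 1)), ∑ i : Fin (m + 1), (i : ℕ) * (τ i : ℕ) =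
              (a : ℕ) * (τ a : ℕ) + (b : ℕ) * (τ b : ℕ) +
                ∑ i ∈ (Finset.univ.erase a).erase b, (i : ℕ) * (τ i : ℕ) := fun τ => by
            rw [← Finset.add_sum_erase _ _ (Finset.mem_univ a),
              ← Finset.add_sum_erase _ _ (Finset.mem_erase.2 ⟨hab.ne', Finset.mem_univ b⟩), add_assoc]
          have hrest : ∑ x ∈ (Finset.univ.erase a).erase b, (x : ℕ) * (σ' x : ℕ) =
              ∑ x ∈ (Finset.univ.erase a).erase b, (x : ℕ) * (σ x : ℕ) := Finset.sum_congr rfl fun x hx => by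
            rw [eo x (Finset.mem_erase.1 (Finset.mem_of_mem_erase hx)).1 (Finset.mem_erase.1 hx).1]
          rw [hsplit σ, hsplit σ', ea, eb, hrest]
          have hab' : (b : ℕ) = (a : ℕ) + 1 := by simp [a, b]
          rw [Fin.lt_def] at hlt
          rw [hab']
          ring_nf
          nlinarith [hlt]
        have ih' := ih _ (by have := hbound σ'; omega) σ' hinv rfl
        intro x
        have hedge : R (σ a) (σ b) := h a b hab hlt
        by_cases hxa : x = a
        · subst hxa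
          exact hR.trans hedge (by rw [← ea]; exact ih' a)
        by_cases hxb : x = b
        · subst hxb
          exact hR.trans (hR.symm hedge) (by rw [← eb]; exact ih' b)
        rw [← eo x hxa hxb]
        exact ih' x

variable {F : Type*} [Field F] {n : ℕ}

/-- The vector of the coroot `(a at x, a⁻¹ at y)`. -/
def pairVec (x y : Fin n) (a : F) : Fin n → F := fun z => (if z = x then a else 1) * if z = y then a⁻¹ else 1

theorem pairVec_self (x : Fin n) {a : F} (ha : a ≠ 0) : pairVec x x a = 1 := by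
  funext z
  by_cases h : z = x <;> simp [pairVec, h, ha]

theorem pairVec_mul (x y z : Fin n) {a : F} (ha : a ≠ 0) :
    pairVec x y a * pairVec y z a = pairVec x z a := by
  funext w
  simp only [Pi.mul_apply, pairVec]
  split_ifs <;> field_simp

theorem pairVec_inv (x y : Fin n) (a : F) : pairVec x y a⁻¹ = pairVec y x a := by
  funext w
  simp only [pairVec, inv_inv]
  ring

/-- The diagonal vector `v` is represented in `H`. -/
def DiagMem (H : Subgroup (SLG n F)) (v : Fin n → F) : Prop :=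
  ∃ e ∈ H, (e : Matrix (Fin n) (Fin n) F) = diagonal v

theorem diagMem_one (H : Subgroup (SLG n F)) : DiagMem H 1 :=
  ⟨1, one_mem _, by rw [Matrix.SpecialLinearGroup.coe_one]; exact diagonal_one.symm⟩

theorem diagMem_mul {H : Subgroup (SLG n F)} {v w : Fin n → F} (hv : DiagMem H v) (hw : DiagMem H w) :
    DiagMem H (v * w) := by
  obtain ⟨e, he, hev⟩ := hv
  obtain ⟨f, hf, hfw⟩ := hw
  exact ⟨e * f, mul_mem he hf, by rw [Matrix.SpecialLinearGroup.coe_mul, hev, hfw, diagonal_mul_diagonal]; rfl⟩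

theorem monomial_conj_xEl {σ : Equiv.Perm (Fin n)} {d : Fin n → F} (hd : ∀ j, d j ≠ 0) {m : SLG n F}
    (hm : ∀ i j, m.1 i j = if i = σ j then d j else 0) {i j : Fin n} (h : i ≠ j) (a : F) :
    m * xEl h a * m⁻¹ = xEl (fun e => h (σ.injective e)) (a * d i / d j) := by
  rw [mul_inv_eq_iff_eq_mul]
  apply Subtype.ext
  ext r s
  rw [mul_xEl h a m r s, xEl_mul, hm, hm, hm]
  have := hd j
  by_cases hs : s = j <;> by_cases hr : r = σ i <;> simp_all [eq_comm, mul_comm] <;> simp [mul_div_cancel₀ _ (hd _), mul_comm]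

variable [Fintype F]

theorem mul_diag_normalizes {H : Subgroup (SLG n F)} (hU : uni n F ≤ H) {σ : Equiv.Perm (Fin n)}
    {d : Fin n → F} (hd : ∀ j, d j ≠ 0) {m : SLG n F} (hmH : m ∈ H)
    (hm : ∀ i j, m.1 i j = if i = σ j then d j else 0) {D : SLG n F}
    (hD : ∀ r s, r ≠ s → D.1 r s = 0) : D * m * D⁻¹ ∈ H := by
  classical
  set t : Fin n → F := fun x => D.1 x x
  have hDt : D.1 = diagonal t := by
    ext r s
    by_cases h : r = s
    · subst h; simp [t]
    · simp [h, hD r s h]
  have ht : ∀ x, t x ≠ 0 := fun x h0 => by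
    have := D.2
    rw [hDt, det_diagonal, Finset.prod_eq_zero (Finset.mem_univ x) h0] at this
    exact zero_ne_one this
  let R : Fin n → Fin n → Prop := fun x y => ∀ a : F, a ≠ 0 → DiagMem H (pairVec x y a)
  have hR : Equivalence R :=
    { refl := fun x a ha => by rw [pairVec_self x ha]; exact diagMem_one H
      symm := fun {x y} h a ha => by rw [← pairVec_inv]; exact h _ (inv_ne_zero ha)
      trans := fun {x y z} h h' a ha => by rw [← pairVec_mul x y z ha]; exact diagMem_mul (h a ha) (h' a ha) }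
  have hedge : ∀ i j, i < j → σ j < σ i → R (σ i) (σ j) := by
    intro i j hij hji a ha
    have hup : ∀ c : F, xEl hji.ne c ∈ H := fun c => hU (xEl_mem_uni hji c)
    have hlow : ∀ c : F, xEl hji.ne' c ∈ H := fun c => by
      have h1 := mul_mem (mul_mem hmH (hU (xEl_mem_uni hij (c * d j / d i)))) (inv_mem hmH)
      rw [monomial_conj_xEl hd hm] at h1
      convert h1 using 2
      have := hd i; have := hd j
      field_simp
    refine ⟨torusEl hji.ne' a, mul_mem (mul_mem (mul_mem (hlow _) (hup _)) (hlow _))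
      (mul_mem (mul_mem (hlow _) (hup _)) (hlow _)), ?_⟩
    ext r s
    rw [torusEl_apply hji.ne' ha, diagonal_apply, pairVec]
    by_cases hrs : r = s
    · subst hrs
      simp only [if_true]
      by_cases h1 : r = σ i <;> by_cases h2 : r = σ j <;> simp_all
    · simp [hrs]
  have hrel := related_perm hR σ hedge
  -- the commutator torus element
  have hprod : ∀ s : Finset (Fin n), DiagMem H (∏ i ∈ s, pairVec i (σ i) (t i)) := by
    intro s
    induction s using Finset.induction with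
    | empty => simpa using diagMem_one H
    | insert i s hi ih =>
      rw [Finset.prod_insert hi]
      exact diagMem_mul (hR.symm (hrel i) _ (ht i)) ih
  obtain ⟨e, heH, he⟩ := hprod Finset.univ
  have hev : ∀ x, (∏ i, pairVec i (σ i) (t i)) x = t x * (t (σ.symm x))⁻¹ := fun x => by
    rw [Finset.prod_apply]
    simp only [pairVec, Finset.prod_mul_distrib, Finset.prod_ite_eq, Finset.mem_univ, if_true]
    congr 1
    rw [Finset.prod_eq_single (σ.symm x) (fun b _ hb => if_neg fun h => hb (by rw [h, σ.symm_apply_apply]))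
      (fun h => absurd (Finset.mem_univ _) h), if_pos (σ.apply_symm_apply x).symm]
  have heq : D * m * D⁻¹ = e * m := by
    rw [mul_inv_eq_iff_eq_mul]
    apply Subtype.ext
    rw [Matrix.SpecialLinearGroup.coe_mul, Matrix.SpecialLinearGroup.coe_mul, Matrix.SpecialLinearGroup.coe_mul,
      hDt, he]
    ext r s
    rw [diagonal_mul, mul_diagonal, diagonal_mul, hev, hm]
    by_cases h : r = σ s
    · subst h
      rw [if_pos rfl, σ.symm_apply_apply]
      have := ht s
      field_simp
    · rw [if_neg h]; ring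
  rw [heq]
  exact mul_mem heH hmH

theorem exists_diag_uni {p : GL (Fin n) F} (hp : p ∈ Cfsg.upperTriangularGL n F) :
    (∀ i, (p : Matrix (Fin n) (Fin n) F) i i ≠ 0) ∧
    (∃ u ∈ uni n F, u.1 = (p : Matrix (Fin n) (Fin n) F) * diagonal (fun i => ((p : Matrix (Fin n) (Fin n) F) i i)⁻¹)) ∧
    (∃ u ∈ uni n F, u.1 = diagonal (fun i => ((p : Matrix (Fin n) (Fin n) F) i i)⁻¹) * (p : Matrix (Fin n) (Fin n) F)) := by
  set A := (p : Matrix (Fin n) (Fin n) F)
  have hz : ∀ i j : Fin n, j < i → A i j = 0 := fun i j h => hp h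
  have hdet : A.det = ∏ i, A i i := Matrix.det_of_isUpperTriangular fun i j h => hz i j h
  have hne : ∀ i, A i i ≠ 0 := fun i h0 =>
    (Matrix.GeneralLinearGroup.det p).ne_zero (show A.det = 0 by
      rw [hdet]; exact Finset.prod_eq_zero (Finset.mem_univ i) h0)
  have hone : (∏ i, A i i) * ∏ i, (A i i)⁻¹ = 1 := by
    rw [← Finset.prod_mul_distrib]; exact Finset.prod_eq_one fun i _ => mul_inv_cancel₀ (hne i)
  refine ⟨hne, ⟨⟨A * diagonal _, by rw [det_mul, det_diagonal, hdet, hone]⟩, ?_, rfl⟩,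
    ⟨⟨diagonal _ * A, by rw [det_mul, det_diagonal, hdet, mul_comm, hone]⟩, ?_, rfl⟩⟩
  · intro i j hji
    show (A * diagonal fun k => (A k k)⁻¹) i j = _
    rw [mul_diagonal]
    split_ifs with h
    · subst h; exact mul_inv_cancel₀ (hne i)
    · rw [hz i j (lt_of_le_of_ne hji (Ne.symm h)), zero_mul]
  · intro i j hji
    show ((diagonal fun k => (A k k)⁻¹) * A) i j = _
    rw [diagonal_mul]
    split_ifs with h
    · subst h; exact inv_mul_cancel₀ (hne i)
    · rw [hz i j (lt_of_le_of_ne hji (Ne.symm h)), mul_zero]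

theorem exists_monomial {H : Subgroup (SLG n F)} (hU : uni n F ≤ H) {h : SLG n F} (hh : h ∈ H) :
    ∃ u ∈ uni n F, ∃ v ∈ uni n F, ∃ m ∈ H, h = u * m * v ∧ ∃ (σ : Equiv.Perm (Fin n)) (d : Fin n → F),
      (∀ j, d j ≠ 0) ∧ ∀ i j, m.1 i j = if i = σ j then d j else 0 := by
  obtain ⟨p, hp, q, hq, σ, hpq⟩ := CfsgLib.GLFlags.bruhat (Matrix.SpecialLinearGroup.toGL h : GL (Fin n) F)
  obtain ⟨hpne, ⟨u, hu, hue⟩, -⟩ := exists_diag_uni hp
  obtain ⟨hqne, -, ⟨v, hv, hve⟩⟩ := exists_diag_uni hq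
  refine ⟨u, hu, v, hv, u⁻¹ * h * v⁻¹, mul_mem (mul_mem (inv_mem (hU hu)) hh) (inv_mem (hU hv)), by group,
    σ, fun j => (p : Matrix (Fin n) (Fin n) F) (σ j) (σ j) * (q : Matrix (Fin n) (Fin n) F) j j,
    fun j => mul_ne_zero (hpne _) (hqne j), fun i j => ?_⟩
  set A := (p : Matrix (Fin n) (Fin n) F)
  set B := (q : Matrix (Fin n) (Fin n) F)
  let M : Matrix (Fin n) (Fin n) F :=
    diagonal (fun i => A i i) * CfsgLib.GLFlags.permMat F σ * diagonal (fun i => B i i)
  have hdd : ∀ f : Fin n → F, (∀ i, f i ≠ 0) → diagonal (fun i => (f i)⁻¹) * diagonal f = 1 := fun f hf => by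
    rw [diagonal_mul_diagonal, ← diagonal_one]; congr 1; funext i; exact inv_mul_cancel₀ (hf i)
  have hdd' : ∀ f : Fin n → F, (∀ i, f i ≠ 0) → diagonal f * diagonal (fun i => (f i)⁻¹) = 1 := fun f hf => by
    rw [diagonal_mul_diagonal, ← diagonal_one]; congr 1; funext i; exact mul_inv_cancel₀ (hf i)
  have hM : h.1 = u.1 * M * v.1 := by
    have h1 : h.1 = A * CfsgLib.GLFlags.permMat F σ * B := by
      have := congrArg (fun g : GL (Fin n) F => (g : Matrix (Fin n) (Fin n) F)) hpq
      simpa [A, B] using this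
    rw [h1, hue, hve]
    simp only [M, mul_assoc]
    rw [← mul_assoc (diagonal fun i => (A i i)⁻¹) (diagonal fun i => A i i), hdd _ hpne, one_mul,
      ← mul_assoc (diagonal fun i => B i i) (diagonal fun i => (B i i)⁻¹), hdd' _ hqne, one_mul]
  have hm : (u⁻¹ * h * v⁻¹).1 = M := by
    rw [Matrix.SpecialLinearGroup.coe_mul, Matrix.SpecialLinearGroup.coe_mul, hM, ← mul_assoc, ← mul_assoc,
      ← Matrix.SpecialLinearGroup.coe_mul u⁻¹ u, inv_mul_cancel, Matrix.SpecialLinearGroup.coe_one, one_mul,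
      mul_assoc, ← Matrix.SpecialLinearGroup.coe_mul v v⁻¹, mul_inv_cancel, Matrix.SpecialLinearGroup.coe_one,
      mul_one]
  rw [hm]
  simp only [M, mul_diagonal, diagonal_mul, CfsgLib.GLFlags.permMat, Matrix.of_apply]
  by_cases hij : i = σ j <;> simp [hij]

theorem conj_mem_of_upper {H : Subgroup (SLG n F)} (hU : uni n F ≤ H) {b : SLG n F}
    (hb : ∀ r s : Fin n, s < r → b.1 r s = 0) : ∀ h ∈ H, b * h * b⁻¹ ∈ H := by
  classical
  have hdet : b.1.det = ∏ i, b.1 i i := Matrix.det_of_isUpperTriangular fun i j h => hb i j h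
  have hD : (diagonal fun i => b.1 i i : Matrix (Fin n) (Fin n) F).det = 1 := by
    rw [det_diagonal, ← hdet]; exact b.2
  set D : SLG n F := ⟨diagonal fun i => b.1 i i, hD⟩
  have hDd : ∀ r s, r ≠ s → D.1 r s = 0 := fun r s h => diagonal_apply_ne _ h
  have hinv : ∀ r s, r ≠ s → (D⁻¹ : SLG n F).1 r s = 0 := fun r s h => by
    rw [Matrix.SpecialLinearGroup.coe_inv]
    show (diagonal fun i => b.1 i i).adjugate r s = 0
    rw [adjugate_diagonal, diagonal_apply_ne _ h]
  have hu : D⁻¹ * b ∈ uni n F := by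
    have hne : ∀ i, b.1 i i ≠ 0 := fun i h0 => by
      exact zero_ne_one ((Finset.prod_eq_zero (f := fun k => b.1 k k) (Finset.mem_univ i) h0).symm.trans
        (hdet.symm.trans b.2))
    intro r s hsr
    have hb' : D.1 r r * (D⁻¹ * b).1 r s = b.1 r s := by
      have h1 : (D * (D⁻¹ * b)).1 r s = b.1 r s := by rw [mul_inv_cancel_left]
      rw [Matrix.SpecialLinearGroup.coe_mul, show D.1 = diagonal fun i => b.1 i i from rfl, diagonal_mul] at h1
      rw [show D.1 r r = b.1 r r from diagonal_apply_eq _ r]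
      exact h1
    have hDrr : D.1 r r = b.1 r r := diagonal_apply_eq _ r
    rw [hDrr] at hb'
    by_cases h : r = s
    · subst h; rw [if_pos rfl]; exact mul_left_cancel₀ (hne r) (hb'.trans (mul_one _).symm)
    · rw [if_neg h]; rw [hb r s (lt_of_le_of_ne hsr (Ne.symm h))] at hb'
      exact (mul_eq_zero.1 hb').resolve_left (hne r)
  intro h hh
  have hg : b * h * b⁻¹ = D * ((D⁻¹ * b) * h * (D⁻¹ * b)⁻¹) * D⁻¹ := by group
  rw [hg]
  obtain ⟨u, hu', v, hv, m, hm, hdec, σ, d, hd, hmd⟩ :=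
    exists_monomial hU (mul_mem (mul_mem (hU hu) hh) (inv_mem (hU hu)))
  rw [hdec, show D * (u * m * v) * D⁻¹ = (D * u * D⁻¹) * (D * m * D⁻¹) * (D * v * D⁻¹) by group]
  exact mul_mem (mul_mem (hU (diag_normalizes hDd hu')) (mul_diag_normalizes hU hd hm hmd hDd))
    (hU (diag_normalizes hDd hv))

theorem isPronormal_of_not_dvd_index (p : ℕ) [Fact p.Prime] [CharP F p] (hn : 1 ≤ n)
    (P : Sylow p (PSLG n F)) {H : Subgroup (PSLG n F)} (hPH : (P : Subgroup (PSLG n F)) ≤ H) :
    Cfsg.IsPronormal H := by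
  refine isPronormal_of_normalizer_normalizes P hPH fun z hz => ?_
  obtain ⟨g, hg⟩ := MulAction.exists_smul_eq (PSLG n F) (sylowT (F := F) hn p) P
  set H' := H.map (MulAut.conj g⁻¹).toMonoidHom
  set Ht := H'.comap (QuotientGroup.mk' (Subgroup.center (SLG n F)))
  have hmem : ∀ x, x ∈ (sylowT (F := F) hn p) → g * x * g⁻¹ ∈ (P : Subgroup (PSLG n F)) := fun x hx => by
    rw [← hg, Sylow.coe_subgroup_smul]
    exact ⟨x, hx, rfl⟩
  have hU : uni n F ≤ Ht := fun u hu => by
    refine ⟨g * QuotientGroup.mk u * g⁻¹, hPH (hmem _ (mem_sylowT.2 ⟨u, hu, rfl⟩)), ?_⟩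
    simp [mul_assoc]
  obtain ⟨b, hb⟩ := QuotientGroup.mk_surjective (g⁻¹ * z * g)
  have hbT : ∀ x, x ∈ (sylowT (F := F) hn p) → (g⁻¹ * z * g)⁻¹ * x * (g⁻¹ * z * g) ∈ (sylowT (F := F) hn p) := by
    intro x hx
    have h1 := (Subgroup.mem_normalizer_iff''.1 hz _).1 (hmem x hx)
    rw [← hg, Sylow.coe_subgroup_smul] at h1
    obtain ⟨y, hy, hye⟩ := h1
    have hye' : g * y * g⁻¹ = z⁻¹ * (g * x * g⁻¹) * z := hye
    suffices h : (g⁻¹ * z * g)⁻¹ * x * (g⁻¹ * z * g) = y by rw [h]; exact hy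
    calc (g⁻¹ * z * g)⁻¹ * x * (g⁻¹ * z * g) = g⁻¹ * (z⁻¹ * (g * x * g⁻¹) * z) * g := by group
      _ = y := by rw [← hye']; group
  have hbU : ∀ u ∈ uni n F, b⁻¹ * u * b ∈ uni n F := by
    intro u hu
    obtain ⟨u', hu', he⟩ := mem_sylowT.1 (hbT _ (mem_sylowT.2 ⟨u, hu, rfl⟩))
    rw [← hb, ← QuotientGroup.mk_inv, ← QuotientGroup.mk_mul, ← QuotientGroup.mk_mul, QuotientGroup.eq] at he
    obtain ⟨k₁, hk₁⟩ := (isPGroup_uni (p := p)) ⟨u, hu⟩
    obtain ⟨k₂, hk₂⟩ := (isPGroup_uni (p := p)) ⟨u', hu'⟩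
    have e1 : u ^ p ^ (k₁ + k₂) = 1 := by
      rw [pow_add, pow_mul, show u ^ p ^ k₁ = 1 from congrArg Subtype.val hk₁, one_pow]
    have e2 : u' ^ p ^ (k₁ + k₂) = 1 := by
      rw [add_comm, pow_add, pow_mul, show u' ^ p ^ k₂ = 1 from congrArg Subtype.val hk₂, one_pow]
    have e3 : (b⁻¹ * u * b) ^ p ^ (k₁ + k₂) = 1 := by
      have h := (conj_pow (i := p ^ (k₁ + k₂)) (a := b⁻¹) (b := u))
      rw [inv_inv] at h
      rw [h, e1, mul_one, inv_mul_cancel]
    have hz' : (u'⁻¹ * (b⁻¹ * u * b)) ∈ Subgroup.center (SLG n F) := he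
    have h1 := scalar_factor_eq_one hn hz' (A := b⁻¹ * u * b) (B := u')
      (by rw [← Subgroup.mem_center_iff.1 hz' u', mul_inv_cancel_left]) e3 e2
    rw [← inv_mul_eq_one.1 h1]
    exact hu'
  have hconj := conj_mem_of_upper hU (upper_of_normalizes hbU)
  refine mem_normalizer_of_conj' fun s hs => ?_
  obtain ⟨a, ha⟩ := QuotientGroup.mk_surjective (g⁻¹ * s * g)
  have hat : a ∈ Ht := by
    show QuotientGroup.mk' _ a ∈ H'
    exact ⟨s, hs, by simp [ha]⟩
  obtain ⟨s', hs', hse⟩ := hconj a hat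
  have hse' : g⁻¹ * s' * g⁻¹⁻¹ = QuotientGroup.mk' _ (b * a * b⁻¹) := hse
  rw [map_mul, map_mul, map_inv, QuotientGroup.mk'_apply, QuotientGroup.mk'_apply, hb, ha] at hse'
  have : z * s * z⁻¹ = s' := by
    calc z * s * z⁻¹ = g * (g⁻¹ * z * g * (g⁻¹ * s * g) * (g⁻¹ * z * g)⁻¹) * g⁻¹ := by group
      _ = g * (g⁻¹ * s' * g⁻¹⁻¹) * g⁻¹ := by rw [hse']
      _ = s' := by group
  rw [this]
  exact hs'
where
  mem_normalizer_of_conj' {G : Type _} [Group G] [Finite G] {H : Subgroup G} {x : G}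
      (h : ∀ s ∈ H, x * s * x⁻¹ ∈ H) : x ∈ Subgroup.normalizer (H : Set G) := by
    have he : H.map (MulAut.conj x).toMonoidHom = H := Subgroup.eq_of_le_of_card_ge
      (by rintro _ ⟨s, hs, rfl⟩; exact h s hs)
      (by rw [Nat.card_congr (H.equivMapOfInjective _ (MulAut.conj x).injective).toEquiv.symm])
    rw [Subgroup.mem_normalizer_iff]
    refine fun s => ⟨h s, fun hs => ?_⟩
    rw [← he] at hs
    obtain ⟨t, ht, hts⟩ := hs
    rwa [show t = s from (MulAut.conj x).injective hts] at ht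

end CfsgLib.PronormalPSL
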