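import Mathlib
import Cfsg.Agent.Lib.PronormalPSL.BlockNorm

/-!
A 2-subgroup of `GL₂(F)` containing two anticommuting elements and with image of order above four modulo
scalars is normalised only by scalars among the elements of odd order.
-/

set_option autoImplicit false
set_option linter.unusedSectionVars false

namespace CfsgLib.PronormalPSL

open Matrix

variable {F : Type*} [Field F]

local notation "M2" => Matrix (Fin 2) (Fin 2) F

theorem commutant_two {A M : M2} (hA : ∀ c : F, A ≠ c • 1) (h : A * M = M * A) :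
    ∃ a b : F, M = a • 1 + b • A := by
  have e00 := congrFun (congrFun h 0) 0
  have e01 := congrFun (congrFun h 0) 1
  have e10 := congrFun (congrFun h 1) 0
  simp only [Matrix.mul_apply, Fin.sum_univ_two] at e00 e01 e10
  by_cases h01 : A 0 1 = 0
  · by_cases h10 : A 1 0 = 0
    · have hd : A 0 0 - A 1 1 ≠ 0 := by
        intro hd
        refine hA (A 0 0) ?_
        ext i j
        fin_cases i <;> fin_cases j <;> simp [h01, h10, sub_eq_zero.1 hd]
      rw [h01] at e01
      rw [h10] at e10
      refine ⟨M 0 0 - (M 0 0 - M 1 1) / (A 0 0 - A 1 1) * A 0 0, (M 0 0 - M 1 1) / (A 0 0 - A 1 1), ?_⟩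
      have m01 : M 0 1 = 0 := (mul_eq_zero.1 (show (A 0 0 - A 1 1) * M 0 1 = 0 by linear_combination e01)).resolve_left hd
      have m10 : M 1 0 = 0 := (mul_eq_zero.1 (show (A 0 0 - A 1 1) * M 1 0 = 0 by linear_combination -e10)).resolve_left hd
      ext i j
      fin_cases i <;> fin_cases j <;> simp [h01, h10, m01, m10]
      field_simp
      ring
    · refine ⟨M 0 0 - M 1 0 / A 1 0 * A 0 0, M 1 0 / A 1 0, ?_⟩
      rw [h01] at e00 e01
      have m01 : M 0 1 = 0 := (mul_eq_zero.1 (show A 1 0 * M 0 1 = 0 by linear_combination -e00)).resolve_left h10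
      ext i j
      fin_cases i <;> fin_cases j <;> simp [h01, h10, m01]
      field_simp
      linear_combination -e10
  · refine ⟨M 0 0 - M 0 1 / A 0 1 * A 0 0, M 0 1 / A 0 1, ?_⟩
    ext i j
    fin_cases i <;> fin_cases j <;> simp <;> field_simp
    · linear_combination e00
    · linear_combination e01

theorem coeff_eq_zero {A : M2} (hA : ∀ c : F, A ≠ c • 1) {a b : F} (h : a • (1 : M2) + b • A = 0) :
    a = 0 ∧ b = 0 := by
  by_cases hb : b = 0
  · subst hb
    have := congrFun (congrFun h 0) 0
    simp at this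
    exact ⟨this, rfl⟩
  · refine absurd ?_ (hA (-a / b))
    have : A = (b⁻¹) • (b • A) := by rw [smul_smul, inv_mul_cancel₀ hb, one_smul]
    rw [this, eq_neg_of_add_eq_zero_right h, smul_neg, smul_smul, ← neg_smul]
    congr 1
    ring

theorem mem_center_iff_scalar {g : GL (Fin 2) F} :
    g ∈ Subgroup.center (GL (Fin 2) F) ↔ ∃ c : F, (g : M2) = c • 1 := by
  rw [GeneralLinearGroup.mem_center_iff_val_mem_range_scalar, Set.mem_range]
  simp [Matrix.smul_one_eq_diagonal, eq_comm]

theorem scalar_of_normalizes_two [Finite F] (h2 : (2 : F) ≠ 0) (S : Subgroup (GL (Fin 2) F))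
    (hS : IsPGroup 2 S) {I J : GL (Fin 2) F} (hI : I ∈ S) (hJ : J ∈ S)
    (hanti : (I : M2) * J = -((J : M2) * I))
    (hbig : 4 < Nat.card (S.map (QuotientGroup.mk' (Subgroup.center (GL (Fin 2) F))))) :
    ScalarNormalizer S := by
  set π := QuotientGroup.mk' (Subgroup.center (GL (Fin 2) F))
  set Sb := S.map π
  have hnz : ∀ g : GL (Fin 2) F, (g : M2) ≠ 0 := fun g => g.ne_zero
  -- a central involution and its lifts
  have hkey : ∀ A : GL (Fin 2) F, A ∈ S → (¬ ∃ c : F, (A : M2) = c • 1) →
      (∃ c : F, (A : M2) * A = c • 1) → (∀ s ∈ S, π s * π A = π A * π s) →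
      ∀ s ∈ S, (s : M2) * A = A * s ∨ (s : M2) * A = -((A : M2) * s) := by
    intro A hA hns hsq hcomm s hs
    have h1 : π (s * A) = π (A * s) := by rw [map_mul, map_mul, hcomm s hs]
    rw [QuotientGroup.mk'_eq_mk'] at h1
    obtain ⟨z, hz, hz2⟩ := h1
    obtain ⟨r, hr⟩ := mem_center_iff_scalar.1 hz
    have h3 : (A : M2) * s = r • ((s : M2) * A) := by
      rw [← Units.val_mul, ← hz2, Units.val_mul, hr, mul_smul_comm, mul_one, Units.val_mul]
    obtain ⟨c, hc⟩ := hsq
    have h4 : c • (s : M2) = (r * r * c) • (s : M2) := by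
      calc c • (s : M2) = ((A : M2) * A) * s := by rw [hc, smul_mul_assoc, one_mul]
        _ = r • (r • ((s : M2) * A * A)) := by rw [mul_assoc, h3, mul_smul_comm, ← mul_assoc, h3, smul_mul_assoc]
        _ = _ := by rw [mul_assoc (s : M2), hc, mul_smul_comm, mul_one, smul_smul, smul_smul, mul_assoc]
    have hc0 : c ≠ 0 := by
      rintro rfl
      rw [zero_smul, ← Units.val_mul] at hc
      exact hnz _ hc
    have h5 : r * r = 1 := by
      have := sub_eq_zero.2 h4
      rw [← sub_smul, smul_eq_zero] at this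
      rcases this with h | h
      · exact mul_right_cancel₀ hc0 (by linear_combination -h)
      · exact absurd h (hnz s)
    rcases mul_self_eq_one_iff.1 h5 with rfl | rfl
    · left; rw [h3, one_smul]
    · right; rw [h3, neg_smul, one_smul, neg_neg]
  have hpg : IsPGroup 2 Sb := hS.map π
  have : Nontrivial Sb := Finite.one_lt_card_iff_nontrivial.1 (by omega)
  have := hpg.center_nontrivial
  obtain ⟨⟨⟨zb, hzb⟩, hzc⟩, hz⟩ := exists_prime_orderOf_dvd_card' (G := Subgroup.center Sb) 2
    (by
      obtain ⟨n, hn⟩ := IsPGroup.iff_card.1 (hpg.to_subgroup (Subgroup.center Sb))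
      have h1 : 1 < Nat.card (Subgroup.center Sb) := Finite.one_lt_card
      rw [hn] at h1 ⊢
      exact dvd_pow_self 2 fun h => by rw [h] at h1; simp at h1)
  rw [Subgroup.orderOf_mk, Subgroup.orderOf_mk] at hz
  obtain ⟨A, hA, hAz⟩ := Subgroup.mem_map.1 hzb
  have hAns : ¬ ∃ c : F, (A : M2) = c • 1 := by
    rintro ⟨c, hc⟩
    rw [← hAz, show π A = 1 from (QuotientGroup.eq_one_iff A).2 (mem_center_iff_scalar.2 ⟨c, hc⟩), orderOf_one] at hz
    omega
  have hAsq : ∃ c : F, (A : M2) * A = c • 1 := by
    have h1 : π (A ^ 2) = 1 := by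
      have h := pow_orderOf_eq_one zb
      rw [hz] at h
      rw [map_pow, hAz, h]
    obtain ⟨c, hc⟩ := mem_center_iff_scalar.1 ((QuotientGroup.eq_one_iff _).1 h1)
    exact ⟨c, by rw [← hc, pow_two, Units.val_mul]⟩
  have hAcomm : ∀ s ∈ S, π s * π A = π A * π s := fun s hs => by
    have := Subgroup.mem_center_iff.1 hzc ⟨π s, Subgroup.mem_map_of_mem π hs⟩
    rw [hAz]; exact congrArg Subtype.val this
  have hA' : ∀ c : F, (A : M2) ≠ c • 1 := fun c hc => hAns ⟨c, hc⟩
  have hsign := hkey A hA hAns hAsq hAcomm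
  obtain ⟨s, hs, hsA⟩ : ∃ s ∈ S, (s : M2) * A = -((A : M2) * s) := by
    by_contra hno
    push Not at hno
    have hc : ∀ s ∈ S, ∃ a b : F, (s : M2) = a • 1 + b • (A : M2) := fun s hs =>
      commutant_two hA' (((hsign s hs).resolve_right (hno s hs)).symm)
    obtain ⟨a, b, hab⟩ := hc I hI
    obtain ⟨a', b', hab'⟩ := hc J hJ
    have hIJ : (I : M2) * J = J * I := by
      rw [hab, hab']
      exact ((Commute.one_left _).smul_left a |>.add_left (((Commute.one_right _).smul_right a' |>.add_right
        ((Commute.refl (A : M2)).smul_right b')).smul_left b)).eq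
    rw [hanti] at hIJ
    have h3 : (2 : F) • ((J : M2) * I) = 0 := by
      rw [two_smul]; nth_rw 1 [← hIJ]; exact neg_add_cancel _
    rw [smul_eq_zero, ← Units.val_mul] at h3
    exact h3.elim h2 (hnz _)
  -- uniqueness
  have huniq : ∀ B : GL (Fin 2) F, B ∈ S → (¬ ∃ c : F, (B : M2) = c • 1) →
      (∃ c : F, (B : M2) * B = c • 1) → (∀ s ∈ S, π s * π B = π B * π s) →
      ∃ l : F, (B : M2) = l • (A : M2) := by
    intro B hB hBns hBsq hBcomm
    rcases hsign B hB with hBA | hBA
    · obtain ⟨a, b, hab⟩ := commutant_two hA' hBA.symm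
      obtain ⟨c, hc⟩ := hBsq
      obtain ⟨d, hd⟩ := hAsq
      rw [hab] at hc
      simp only [add_mul, mul_add, smul_mul_smul_comm, mul_one, one_mul, hd, smul_smul] at hc
      have h0 : (a * a + b * b * d - c) • (1 : M2) + (2 * a * b) • (A : M2) = 0 := by
        rw [← sub_eq_zero] at hc
        rw [← hc]
        module
      rcases mul_eq_zero.1 (coeff_eq_zero hA' h0).2 with h | h
      · exact ⟨b, by rw [hab, (mul_eq_zero.1 h).resolve_left h2, zero_smul, zero_add]⟩
      · exact absurd ⟨a, by rw [hab, h, zero_smul, add_zero]⟩ hBns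
    · exfalso
      have hsignB := hkey B hB hBns hBsq hBcomm
      classical
      have hcov : (Sb : Set (GL (Fin 2) F ⧸ Subgroup.center (GL (Fin 2) F))) ⊆
          ({1, π A, π B, π (A * B)} : Finset (GL (Fin 2) F ⧸ Subgroup.center (GL (Fin 2) F))) := by
        intro g hg
        obtain ⟨t, ht, rfl⟩ := Subgroup.mem_map.1 hg
        have hsc : ∀ u : GL (Fin 2) F, (u : M2) * A = A * u → (u : M2) * B = B * u → π u = 1 := by
          intro u huA huB
          obtain ⟨a, b, hab⟩ := commutant_two hA' huA.symm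
          refine (QuotientGroup.eq_one_iff u).2 (mem_center_iff_scalar.2 ⟨a, ?_⟩)
          rw [hab, add_mul, mul_add, smul_mul_assoc, one_mul, mul_smul_comm, mul_one, smul_mul_assoc,
            mul_smul_comm, add_left_cancel_iff, hBA, smul_neg, eq_neg_iff_add_eq_zero, ← two_smul F,
            smul_smul, smul_eq_zero, ← Units.val_mul] at huB
          rw [hab, (mul_eq_zero.1 (huB.resolve_right (hnz _))).resolve_left h2, zero_smul, add_zero]
        simp only [Finset.coe_insert, Finset.coe_singleton, Set.mem_insert_iff, Set.mem_singleton_iff]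
        have hAA : π A * π A = 1 := by
          rw [← map_mul]; exact (QuotientGroup.eq_one_iff _).2 (mem_center_iff_scalar.2 (by simpa using hAsq))
        have hBB : π B * π B = 1 := by
          rw [← map_mul]; exact (QuotientGroup.eq_one_iff _).2 (mem_center_iff_scalar.2 (by simpa using hBsq))
        rcases hsign t ht with tA | tA <;> rcases hsignB t ht with tB | tB
        · exact Or.inl (hsc t tA tB)
        · -- `t A` commutes with both
          right; left
          have h := hsc (t * A) (by rw [Units.val_mul, mul_assoc, ← mul_assoc (A : M2) (t : M2), ← tA, mul_assoc])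
            (by rw [Units.val_mul, mul_assoc, show (A : M2) * B = -((B : M2) * A) by rw [hBA, neg_neg],
              mul_neg, ← mul_assoc, tB, neg_mul, neg_neg, mul_assoc])
          rw [map_mul] at h
          exact (eq_inv_of_mul_eq_one_left h).trans (inv_eq_of_mul_eq_one_right hAA)
        · right; right; left
          have h := hsc (t * B) (by rw [Units.val_mul, mul_assoc, hBA, mul_neg, ← mul_assoc, tA, neg_mul, neg_neg, mul_assoc])
            (by rw [Units.val_mul, mul_assoc, ← mul_assoc (B : M2) (t : M2), ← tB, mul_assoc])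
          rw [map_mul] at h
          exact (eq_inv_of_mul_eq_one_left h).trans (inv_eq_of_mul_eq_one_right hBB)
        · right; right; right
          have hab : (A : M2) * B = -((B : M2) * A) := by rw [hBA, neg_neg]
          have h := hsc (t * (B * A))
            (by
              rw [Units.val_mul, Units.val_mul]
              calc (t : M2) * (B * A) * A = (t : M2) * ((B * A) * A) := mul_assoc _ _ _
                _ = (t : M2) * (-((A : M2) * (B * A))) := by rw [← mul_assoc (A : M2), hab, neg_mul, neg_neg]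
                _ = -((t : M2) * A * (B * A)) := by rw [mul_neg, mul_assoc]
                _ = _ := by rw [tA, neg_mul, neg_neg, mul_assoc])
            (by
              rw [Units.val_mul, Units.val_mul]
              calc (t : M2) * (B * A) * B = (t : M2) * (B * (A * B)) := by simp only [mul_assoc]
                _ = -((t : M2) * B * (B * A)) := by rw [hab, mul_neg, mul_neg, mul_assoc]
                _ = _ := by rw [tB, neg_mul, neg_neg, mul_assoc])
          rw [map_mul, map_mul] at h
          rw [map_mul, eq_inv_of_mul_eq_one_left h, _root_.mul_inv_rev,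
            inv_eq_of_mul_eq_one_right hAA, inv_eq_of_mul_eq_one_right hBB]
      have h1 := (Set.ncard_le_ncard hcov).trans_eq (Set.ncard_coe_finset _)
      rw [← Nat.card_coe_set_eq] at h1
      have := h1.trans Finset.card_le_four
      have : Nat.card Sb ≤ 4 := this
      omega
  intro x hodd hx
  obtain ⟨l, hl⟩ : ∃ l : F, ((x * A * x⁻¹ : GL (Fin 2) F) : M2) = l • (A : M2) := by
    have hxs : ∀ s ∈ S, x⁻¹ * s * x ∈ S := fun s hs => (Subgroup.mem_normalizer_iff''.1 hx s).1 hs
    refine huniq _ ((Subgroup.mem_normalizer_iff.1 hx _).1 hA) ?_ ?_ ?_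
    · rintro ⟨c, hc⟩
      refine hAns ⟨c, ?_⟩
      rw [show A = x⁻¹ * (x * A * x⁻¹) * x by group, Units.val_mul, Units.val_mul, hc, mul_smul_comm,
        mul_one, smul_mul_assoc, ← Units.val_mul, inv_mul_cancel, Units.val_one]
    · obtain ⟨c, hc⟩ := hAsq
      refine ⟨c, ?_⟩
      rw [← Units.val_mul, show x * A * x⁻¹ * (x * A * x⁻¹) = x * (A * A) * x⁻¹ by group, Units.val_mul,
        Units.val_mul, Units.val_mul, hc, mul_smul_comm, mul_one, smul_mul_assoc, ← Units.val_mul,
        mul_inv_cancel, Units.val_one]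
    · intro t ht
      have h := congrArg (fun g => π x * g * (π x)⁻¹) (hAcomm _ (hxs t ht))
      simp only [map_mul, map_inv] at h ⊢
      calc π t * (π x * π A * (π x)⁻¹) = π x * ((π x)⁻¹ * π t * π x * π A) * (π x)⁻¹ := by group
        _ = π x * (π A * ((π x)⁻¹ * π t * π x)) * (π x)⁻¹ := h
        _ = _ := by group
  have hxA : (x : M2) * A = l • ((A : M2) * x) := by
    rw [← Units.val_mul, show x * A = x * A * x⁻¹ * x by group, Units.val_mul, hl, smul_mul_assoc]
  have hiter : ∀ k : ℕ, ((x ^ k : GL (Fin 2) F) : M2) * A = l ^ k • ((A : M2) * ((x ^ k : GL (Fin 2) F) : M2)) := by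
    intro k
    induction k with
    | zero => simp
    | succ k ih =>
      rw [pow_succ x, Units.val_mul, mul_assoc, hxA, mul_smul_comm, ← mul_assoc, ih, smul_mul_assoc,
        mul_assoc, smul_smul, ← pow_succ']
  have hlodd : l ^ orderOf x = 1 := by
    have h := hiter (orderOf x)
    rw [pow_orderOf_eq_one, Units.val_one, one_mul, mul_one] at h
    have h1 : (l ^ orderOf x - 1) • (A : M2) = 0 := by rw [sub_smul, one_smul, ← h, sub_self]
    exact sub_eq_zero.1 ((smul_eq_zero.1 h1).resolve_right (hnz A))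
  have hl2 : l ^ 2 = 1 := by
    obtain ⟨c, hc⟩ := hAsq
    have hc0 : c ≠ 0 := by
      rintro rfl
      rw [zero_smul, ← Units.val_mul] at hc
      exact hnz _ hc
    have h := congrArg (fun M : M2 => M * M) hl
    simp only [smul_mul_smul_comm, hc, smul_smul] at h
    rw [← Units.val_mul, show x * A * x⁻¹ * (x * A * x⁻¹) = x * (A * A) * x⁻¹ by group, Units.val_mul,
      Units.val_mul, Units.val_mul, hc, mul_smul_comm, mul_one, smul_mul_assoc, ← Units.val_mul,
      mul_inv_cancel, Units.val_one, ← sub_eq_zero, ← sub_smul, smul_eq_zero] at h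
    have h' := h.resolve_right one_ne_zero
    rw [pow_two]
    exact mul_right_cancel₀ hc0 (by linear_combination -h')
  have hl1 : l = 1 := eq_one_of_odd_two' hodd hlodd hl2
  rw [hl1, one_smul] at hxA
  obtain ⟨a, b, hab⟩ := commutant_two hA' hxA.symm
  refine ⟨a, ?_⟩
  set x' := s * x * s⁻¹
  have hx' : (x' : M2) = a • 1 + (-b) • (A : M2) := by
    have h : (s : M2) * x = (a • 1 + (-b) • (A : M2)) * s := by
      rw [hab, mul_add, mul_smul_comm, mul_one, mul_smul_comm, hsA, add_mul, smul_mul_assoc, one_mul,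
        smul_mul_assoc, smul_neg, neg_smul]
    rw [show x' = s * x * s⁻¹ from rfl, Units.val_mul, Units.val_mul, h, mul_assoc, ← Units.val_mul,
      mul_inv_cancel, Units.val_one, mul_one]
  have hcomm : Commute x' x := by
    apply Units.ext
    rw [Units.val_mul x' x, Units.val_mul x x', hx', hab]
    exact ((Commute.one_left _).smul_left a |>.add_left (((Commute.one_right _).smul_right a |>.add_right
      ((Commute.refl (A : M2)).smul_right b)).smul_left (-b))).eq
  have hy : x' * x⁻¹ ∈ S := by
    have h := S.mul_mem hs ((Subgroup.mem_normalizer_iff.1 hx _).1 (S.inv_mem hs))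
    rwa [show s * (x * s⁻¹ * x⁻¹) = x' * x⁻¹ by simp only [x', mul_assoc]] at h
  have ho : x' ^ orderOf x = 1 := by
    rw [show x' = s * x * s⁻¹ from rfl, conj_pow, pow_orderOf_eq_one, mul_one, mul_inv_cancel]
  obtain ⟨k, hk⟩ := hS ⟨_, hy⟩
  have hyk : (x' * x⁻¹) ^ 2 ^ k = 1 := congrArg Subtype.val hk
  have hy1 := mul_inv_eq_one.1 (eq_one_of_odd_two hodd (by
    rw [hcomm.inv_right.mul_pow, ho, inv_pow, pow_orderOf_eq_one, inv_one, one_mul]) hyk)
  rw [hy1, hab] at hx'
  have hb : (2 * b) • (A : M2) = 0 := by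
    have := add_left_cancel hx'
    rw [neg_smul, eq_neg_iff_add_eq_zero, ← two_smul F, smul_smul] at this
    exact this
  rw [smul_eq_zero, mul_eq_zero] at hb
  rw [hab, (hb.resolve_right (hnz A)).resolve_left h2, zero_smul, add_zero]
where
  eq_one_of_odd_two' {K : Type _} [Field K] {l : K} {n : ℕ} (hn : Odd n) (h1 : l ^ n = 1) (h2 : l ^ 2 = 1) :
      l = 1 := by
    obtain ⟨k, rfl⟩ := hn
    rwa [pow_succ, pow_mul, h2, one_pow, one_mul] at h1

end CfsgLib.PronormalPSL
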