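import Mathlib
import Cfsg.Agent.Lib.PronormalPSL.Arith
import Cfsg.Agent.Lib.PronormalPSL.TwoDim

/-!
Sylow 2-subgroups of `SL_{2^k}(q)`, `q` odd, `k ≥ 2`, are their own normalisers.
-/

set_option autoImplicit false
set_option linter.unusedSectionVars false

namespace CfsgLib.PronormalPSL

open Matrix

variable {F : Type*} [Field F] [Fintype F]

/-- The kernel of the determinant in `GL`. -/
abbrev detK (ι : Type) [Fintype ι] [DecidableEq ι] (F : Type*) [Field F] : Subgroup (GL ι F) :=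
  MonoidHom.ker (Matrix.GeneralLinearGroup.det : GL ι F →* Fˣ)

/-- Reindexing of invertible matrices. -/
noncomputable def glReindex {ι κ : Type} [Fintype ι] [DecidableEq ι] [Fintype κ] [DecidableEq κ] (e : ι ≃ κ) :
    GL ι F ≃* GL κ F :=
  Units.mapEquiv (Matrix.reindexAlgEquiv F F e).toMulEquiv

theorem natCard_gl {ι : Type} [Fintype ι] [DecidableEq ι] :
    Nat.card (GL ι F) = ∏ i : Fin (Fintype.card ι),
      (Fintype.card F ^ Fintype.card ι - Fintype.card F ^ (i : ℕ)) := by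
  rw [Nat.card_congr (glReindex (F := F) (Fintype.equivFin ι)).toEquiv, Matrix.card_GL_field]

theorem v2_card_gl (hq : Odd (Fintype.card F)) {ι : Type} [Fintype ι] [DecidableEq ι] :
    v2 (Nat.card (GL ι F)) = glExp (Fintype.card F) (Fintype.card ι) := by
  rw [natCard_gl]
  exact v2_prod_gl hq Fintype.one_lt_card _

theorem two_ne_zero_of_odd_card (hq : Odd (Fintype.card F)) : (2 : F) ≠ 0 :=
  Ring.two_ne_zero fun h => by
    have := FiniteField.even_card_of_char_two h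
    exact Nat.not_even_iff_odd.2 hq (Nat.even_iff.2 this)

theorem exists_mem_det {ι : Type} [Fintype ι] [DecidableEq ι] [Nonempty ι] (S : Sylow 2 (GL ι F)) (u : Fˣ)
    {n : ℕ} (hu : u ^ 2 ^ n = 1) : ∃ s ∈ (S : Subgroup (GL ι F)), Matrix.GeneralLinearGroup.det s = u := by
  have hsurj : Function.Surjective (Matrix.GeneralLinearGroup.det : GL ι F →* Fˣ) := fun a => by
    obtain ⟨i⟩ := ‹Nonempty ι›
    refine ⟨GeneralLinearGroup.mkOfDetNeZero (diagonal (Function.update 1 i (a : F))) ?_, Units.ext ?_⟩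
    · rw [det_diagonal, Finset.prod_update_of_mem (Finset.mem_univ i)]; simp
    · show (diagonal (Function.update (1 : ι → F) i (a : F))).det = (a : F)
      rw [det_diagonal, Finset.prod_update_of_mem (Finset.mem_univ i)]; simp
  let P := S.mapSurjective hsurj
  obtain ⟨Q, hQ⟩ := IsPGroup.exists_le_sylow (p := 2) (P := Subgroup.zpowers u) (by
    rintro ⟨x, hx⟩
    obtain ⟨z, rfl⟩ := hx
    exact ⟨n, Subtype.ext (by
      show (u ^ z) ^ 2 ^ n = 1
      rw [← zpow_natCast (u ^ z), ← _root_.zpow_mul, mul_comm, _root_.zpow_mul, zpow_natCast, hu, _root_.one_zpow])⟩)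
  have := Sylow.unique_of_normal Q inferInstance
  rw [Subsingleton.elim Q P] at hQ
  exact Subgroup.mem_map.1 (hQ (Subgroup.mem_zpowers u))

/-- A Sylow 2-subgroup of `GL ι` with the properties carried through the induction. -/
def GoodSylow {ι : Type} [Fintype ι] [DecidableEq ι] (S : Sylow 2 (GL ι F)) : Prop :=
  Irr ((S : Subgroup (GL ι F)) ⊓ detK ι F) ∧
    3 ≤ Nat.card ((S : Subgroup (GL ι F)) ⊓ detK ι F : Subgroup (GL ι F)) ∧
    ScalarNormalizer (S : Subgroup (GL ι F))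

/-! ### Degree two -/

theorem exists_quaternion_pair (h2 : (2 : F) ≠ 0) :
    ∃ I J : GL (Fin 2) F, I ∈ detK (Fin 2) F ∧ J ∈ detK (Fin 2) F ∧
      (I : Matrix (Fin 2) (Fin 2) F) * I = -1 ∧ (J : Matrix (Fin 2) (Fin 2) F) * J = -1 ∧
      (I : Matrix (Fin 2) (Fin 2) F) * J = -((J : Matrix (Fin 2) (Fin 2) F) * I) := by
  obtain ⟨a, b, hab⟩ : ∃ a b : F, a ^ 2 + b ^ 2 = -1 := by
    obtain ⟨p, hp⟩ := CharP.exists F
    have : Fact p.Prime := ⟨CharP.char_is_prime F p⟩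
    obtain ⟨a, b, h⟩ := FiniteField.exists_root_sum_quadratic (f := (Polynomial.X ^ 2 : Polynomial F))
      (g := Polynomial.X ^ 2 + 1) (by simp) (by
        rw [← Polynomial.C_1]; exact Polynomial.degree_X_pow_add_C (by norm_num) 1) (by
        obtain ⟨n, -, hn⟩ := FiniteField.card F p
        rw [hn, Nat.pow_mod, Nat.odd_iff.1 ((Fact.out : p.Prime).odd_of_ne_two fun e => h2 (by
          subst e; exact CharP.cast_eq_zero F 2))]
        simp)
    exact ⟨a, b, by simp at h; linear_combination h⟩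
  have hI : (!![0, 1; -1, 0] : Matrix (Fin 2) (Fin 2) F).det = 1 := by simp [det_fin_two]
  have hJ : (!![a, b; b, -a] : Matrix (Fin 2) (Fin 2) F).det = 1 := by
    simp [det_fin_two]; linear_combination -hab
  refine ⟨GeneralLinearGroup.mkOfDetNeZero _ (by rw [hI]; exact one_ne_zero),
    GeneralLinearGroup.mkOfDetNeZero _ (by rw [hJ]; exact one_ne_zero), Units.ext hI, Units.ext hJ, ?_, ?_, ?_⟩
  · show (!![0, 1; -1, 0] : Matrix (Fin 2) (Fin 2) F) * !![0, 1; -1, 0] = -1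
    ext i j; fin_cases i <;> fin_cases j <;> simp
  · show (!![a, b; b, -a] : Matrix (Fin 2) (Fin 2) F) * !![a, b; b, -a] = -1
    ext i j; fin_cases i <;> fin_cases j <;> simp <;> first | linear_combination hab | ring1
  · show (!![0, 1; -1, 0] : Matrix (Fin 2) (Fin 2) F) * !![a, b; b, -a] =
      -(!![a, b; b, -a] * !![0, 1; -1, 0])
    ext i j; fin_cases i <;> fin_cases j <;> simp

/-- The quaternion group generated by a quaternion pair is a 2-group. -/
theorem isPGroup_pair {I J : GL (Fin 2) F} (hI : (I : Matrix (Fin 2) (Fin 2) F) * I = -1)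
    (hJ : (J : Matrix (Fin 2) (Fin 2) F) * J = -1)
    (hIJ : (I : Matrix (Fin 2) (Fin 2) F) * J = -((J : Matrix (Fin 2) (Fin 2) F) * I)) :
    IsPGroup 2 (Subgroup.zpowers I ⊔ Subgroup.zpowers J : Subgroup (GL (Fin 2) F)) := by
  have h4 : ∀ {K : GL (Fin 2) F}, (K : Matrix (Fin 2) (Fin 2) F) * K = -1 → IsPGroup 2 (Subgroup.zpowers K) := by
    intro K hK
    have h : K ^ 4 = 1 := Units.ext (by
      rw [Units.val_pow_eq_pow_val, show (4 : ℕ) = 2 * 2 from rfl, pow_mul, pow_two (K : Matrix (Fin 2) (Fin 2) F), hK]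
      simp)
    rintro ⟨x, hx⟩
    obtain ⟨z, rfl⟩ := hx
    exact ⟨2, Subtype.ext (by
      show (K ^ z) ^ 2 ^ 2 = 1
      rw [← zpow_natCast (K ^ z), ← _root_.zpow_mul, mul_comm, _root_.zpow_mul, zpow_natCast,
        show (2 : ℕ) ^ 2 = 4 from rfl, h, _root_.one_zpow])⟩
  have hconj : I * J * I⁻¹ = J⁻¹ := by
    refine mul_inv_eq_of_eq_mul (Units.ext ?_)
    have hJi : ((J⁻¹ : GL (Fin 2) F) : Matrix (Fin 2) (Fin 2) F) = -(J : Matrix (Fin 2) (Fin 2) F) :=
      left_inv_eq_right_inv (Units.inv_mul J) (by rw [mul_neg, hJ, neg_neg])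
    rw [Units.val_mul, Units.val_mul, hJi, hIJ, neg_mul]
  refine IsPGroup.to_sup_of_normal_right' (h4 hI) (h4 hJ) ?_
  rw [Subgroup.zpowers_le]
  refine mem_normalizer_of_conj fun s hs => ?_
  obtain ⟨z, rfl⟩ := hs
  show I * J ^ z * I⁻¹ ∈ _
  rw [← conj_zpow, hconj]
  exact Subgroup.zpow_mem _ (Subgroup.inv_mem _ (Subgroup.mem_zpowers J)) z

theorem irr_pair (h2 : (2 : F) ≠ 0) {G : Subgroup (GL (Fin 2) F)} {I J : GL (Fin 2) F} (hIm : I ∈ G) (hJm : J ∈ G)
    (hI : (I : Matrix (Fin 2) (Fin 2) F) * I = -1) (hJ : (J : Matrix (Fin 2) (Fin 2) F) * J = -1)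
    (hIJ : (I : Matrix (Fin 2) (Fin 2) F) * J = -((J : Matrix (Fin 2) (Fin 2) F) * I)) : Irr G := by
  intro W hW
  by_contra h
  push Not at h
  have h1 : Module.finrank F W = 1 := by
    have hlt := Submodule.finrank_lt h.2
    rw [Module.finrank_fin_fun] at hlt
    have : Module.finrank F W ≠ 0 := fun h0 => h.1 (Submodule.finrank_eq_zero.1 h0)
    omega
  obtain ⟨⟨v, hv⟩, hv0, hspan⟩ := finrank_eq_one_iff'.1 h1
  have hv0' : v ≠ 0 := fun h => hv0 (Subtype.ext h)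
  obtain ⟨a, ha⟩ := hspan ⟨_, hW I hIm v hv⟩
  obtain ⟨b, hb⟩ := hspan ⟨_, hW J hJm v hv⟩
  replace ha : a • v = (I : Matrix (Fin 2) (Fin 2) F) *ᵥ v := congrArg Subtype.val ha
  replace hb : b • v = (J : Matrix (Fin 2) (Fin 2) F) *ᵥ v := congrArg Subtype.val hb
  have haa : (a * a) • v = -v := by
    rw [← smul_smul, ha, ← mulVec_smul, ha, mulVec_mulVec, hI, neg_mulVec, one_mulVec]
  have hbb : (b * b) • v = -v := by
    rw [← smul_smul, hb, ← mulVec_smul, hb, mulVec_mulVec, hJ, neg_mulVec, one_mulVec]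
  have hab : (a * b) • v = -((b * a) • v) := by
    calc (a * b) • v = (I : Matrix (Fin 2) (Fin 2) F) *ᵥ ((J : Matrix (Fin 2) (Fin 2) F) *ᵥ v) := by
          rw [← hb, mulVec_smul, ← ha, smul_smul, mul_comm]
      _ = -((J : Matrix (Fin 2) (Fin 2) F) *ᵥ ((I : Matrix (Fin 2) (Fin 2) F) *ᵥ v)) := by
          rw [mulVec_mulVec, mulVec_mulVec, hIJ, neg_mulVec]
      _ = _ := by rw [← ha, mulVec_smul, ← hb, smul_smul, mul_comm]
  have h0 : (2 * (a * b)) • v = 0 := by
    rw [mul_comm b a, eq_neg_iff_add_eq_zero, ← two_smul F, smul_smul] at hab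
    exact hab
  rcases mul_eq_zero.1 ((smul_eq_zero.1 h0).resolve_right hv0') with h | h
  · exact h2 h
  · rcases mul_eq_zero.1 h with rfl | rfl
    · rw [mul_zero, zero_smul, zero_eq_neg] at haa; exact hv0' haa
    · rw [mul_zero, zero_smul, zero_eq_neg] at hbb; exact hv0' hbb

theorem eight_dvd_sq_sub_one {q : ℕ} (hq : Odd q) : 8 ∣ (q - 1) * (q + 1) := by
  rw [← sq_sub_one_eq]
  exact Nat.eight_dvd_sq_sub_one_of_odd hq

theorem exists_good_two (hq : Odd (Fintype.card F)) : ∃ S : Sylow 2 (GL (Fin 2) F), GoodSylow S := by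
  have h2 := two_ne_zero_of_odd_card hq
  obtain ⟨I, J, hIK, hJK, hI, hJ, hIJ⟩ := exists_quaternion_pair h2
  obtain ⟨S, hS⟩ := (isPGroup_pair hI hJ hIJ).exists_le_sylow
  have hIS : I ∈ (S : Subgroup (GL (Fin 2) F)) := hS (Subgroup.mem_sup_left (Subgroup.mem_zpowers I))
  have hJS : J ∈ (S : Subgroup (GL (Fin 2) F)) := hS (Subgroup.mem_sup_right (Subgroup.mem_zpowers J))
  refine ⟨S, irr_pair h2 ⟨hIS, hIK⟩ ⟨hJS, hJK⟩ hI hJ hIJ, ?_, ?_⟩
  · classical
    have hI2 : ((I * I : GL (Fin 2) F) : Matrix (Fin 2) (Fin 2) F) = -1 := by rw [Units.val_mul, hI]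
    have hne : (1 : GL (Fin 2) F) ≠ I * I := fun h => by
      have := congrFun (congrFun ((congrArg Units.val h).trans hI2) 0) 0
      simp at this
      exact h2 (by linear_combination this)
    have hsub : (({1, I, I * I} : Finset (GL (Fin 2) F)) : Set (GL (Fin 2) F)) ⊆
        ((S : Subgroup (GL (Fin 2) F)) ⊓ detK (Fin 2) F : Subgroup (GL (Fin 2) F)) := by
      intro g hg
      simp at hg
      rcases hg with rfl | rfl | rfl
      · exact one_mem _
      · exact ⟨hIS, hIK⟩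
      · exact mul_mem (show I ∈ _ ⊓ detK (Fin 2) F from ⟨hIS, hIK⟩) ⟨hIS, hIK⟩
    have h := Set.ncard_le_ncard hsub (Set.toFinite _)
    rw [Set.ncard_coe_finset, ← Nat.card_coe_set_eq] at h
    refine le_trans (le_of_eq ?_) h
    refine (Finset.card_eq_three.2 ⟨1, I, I * I, ?_, hne, ?_, rfl⟩).symm
    · intro h
      exact hne (by rw [← h, one_mul])
    · intro h
      exact hne (by rw [left_eq_mul.1 h, one_mul])
  · refine scalar_of_normalizes_two h2 _ S.isPGroup' hIS hJS hIJ ?_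
    let Z := Subgroup.center (GL (Fin 2) F)
    let P := S.mapSurjective (QuotientGroup.mk'_surjective Z)
    show 4 < Nat.card (P : Subgroup (GL (Fin 2) F ⧸ Z))
    rw [Sylow.card_eq_multiplicity]
    set q := Fintype.card F with hqd
    have hZ : Nat.card Z = q - 1 := by
      rw [show Z = (GeneralLinearGroup.scalar (Fin 2)).range from GeneralLinearGroup.center_eq_range_scalar,
        ← Nat.card_congr (MonoidHom.ofInjective (f := (GeneralLinearGroup.scalar (Fin 2) : Fˣ →* _))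
          (fun a b h => Units.ext (scalar_inj.1 (congrArg Units.val h)))).toEquiv,
        Nat.card_units, Nat.card_eq_fintype_card]
    have hq3 : 2 ≤ q := Fintype.one_lt_card
    have hq1 : 0 < q - 1 := by omega
    have hprod : Nat.card (GL (Fin 2) F ⧸ Z) * (q - 1) = q * ((q - 1) * (q + 1)) * (q - 1) := by
      rw [← hZ, ← Subgroup.card_eq_card_quotient_mul_card_subgroup, hZ, natCard_gl, Fintype.card_fin,
        Fin.prod_univ_two, ← hqd]
      simp only [Fin.val_zero, Fin.val_one, pow_zero, pow_one]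
      rw [show q ^ 2 - q = q * (q - 1) by rw [Nat.mul_sub, mul_one, pow_two], sq_sub_one_eq]
      ring
    have hc := Nat.eq_of_mul_eq_mul_right hq1 hprod
    have h8 : 2 ^ 3 ∣ Nat.card (GL (Fin 2) F ⧸ Z) := by
      rw [hc]; exact Dvd.dvd.mul_left (eight_dvd_sq_sub_one hq) _
    have h3 := (pow_dvd_iff_le_v2 Nat.card_pos.ne').1 h8
    have h4 := Nat.pow_le_pow_right (show 0 < 2 by norm_num) h3
    exact lt_of_lt_of_le (by norm_num) h4

/-! ### The step -/

section step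

variable {ι : Type} [Fintype ι] [DecidableEq ι]

/-- `(S × S) ⋊ ⟨swap⟩`. -/
def wreathTwo (S : Subgroup (GL ι F)) : Subgroup (GL (ι ⊕ ι) F) where
  carrier := {g | ∃ y : GL ι F × GL ι F, y.1 ∈ S ∧ y.2 ∈ S ∧ (g = blockHom y ∨ g = blockHom y * swapBlock)}
  mul_mem' := by
    rintro g h ⟨y, hy1, hy2, hy⟩ ⟨z, hz1, hz2, hz⟩
    have hσ : ∀ z : GL ι F × GL ι F, (swapBlock : GL (ι ⊕ ι) F) * blockHom z = blockHom (z.2, z.1) * swapBlock :=
      fun z => by rw [← swapBlock_conj, mul_assoc, swapBlock_mul_self, mul_one]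
    rcases hy with rfl | rfl <;> rcases hz with rfl | rfl
    · exact ⟨y * z, mul_mem hy1 hz1, mul_mem hy2 hz2, Or.inl (map_mul _ _ _).symm⟩
    · exact ⟨y * z, mul_mem hy1 hz1, mul_mem hy2 hz2, Or.inr (by rw [map_mul, mul_assoc])⟩
    · exact ⟨y * (z.2, z.1), mul_mem hy1 hz2, mul_mem hy2 hz1,
        Or.inr (by rw [map_mul, mul_assoc, hσ, mul_assoc])⟩
    · refine ⟨y * (z.2, z.1), mul_mem hy1 hz2, mul_mem hy2 hz1, Or.inl ?_⟩
      rw [map_mul, mul_assoc, ← mul_assoc (swapBlock : GL (ι ⊕ ι) F), hσ, mul_assoc (blockHom (z.2, z.1)),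
        swapBlock_mul_self, mul_one]
  one_mem' := ⟨1, one_mem _, one_mem _, Or.inl (map_one _).symm⟩
  inv_mem' := by
    rintro g ⟨y, hy1, hy2, rfl | rfl⟩
    · exact ⟨y⁻¹, inv_mem hy1, inv_mem hy2, Or.inl (map_inv _ _).symm⟩
    · refine ⟨(y.2⁻¹, y.1⁻¹), inv_mem hy2, inv_mem hy1, Or.inr ?_⟩
      rw [_root_.mul_inv_rev, inv_eq_of_mul_eq_one_right swapBlock_mul_self, ← map_inv,
        show (y.2⁻¹, y.1⁻¹) = ((y⁻¹).2, (y⁻¹).1) from rfl, ← swapBlock_conj y⁻¹, mul_assoc, swapBlock_mul_self, mul_one]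

theorem card_wreathTwo [Nonempty ι] (S : Subgroup (GL ι F)) :
    Nat.card (wreathTwo S) = 2 * (Nat.card S * Nat.card S) := by
  let f : Bool × (S × S) → wreathTwo S := fun z =>
    if z.1 then ⟨blockHom (z.2.1.1, z.2.2.1) * swapBlock, _, z.2.1.2, z.2.2.2, Or.inr rfl⟩
    else ⟨blockHom (z.2.1.1, z.2.2.1), _, z.2.1.2, z.2.2.2, Or.inl rfl⟩
  have hf : Function.Bijective f := by
    constructor
    · rintro ⟨b, s, t⟩ ⟨b', s', t'⟩ h
      have h' := congrArg Subtype.val h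
      rcases b <;> rcases b' <;> simp only [f, Bool.false_eq_true, if_false, if_true] at h'
      · have := blockHom_injective h'
        simp only [Prod.mk.injEq] at this
        rw [Subtype.ext this.1, Subtype.ext this.2]
      · exact absurd h' (blockHom_ne_mul_swap _ _)
      · exact absurd h'.symm (blockHom_ne_mul_swap _ _)
      · have := blockHom_injective (mul_right_cancel h')
        simp only [Prod.mk.injEq] at this
        rw [Subtype.ext this.1, Subtype.ext this.2]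
    · rintro ⟨g, ⟨y1, y2⟩, h1, h2, rfl | rfl⟩
      · exact ⟨(false, ⟨y1, h1⟩, ⟨y2, h2⟩), Subtype.ext rfl⟩
      · exact ⟨(true, ⟨y1, h1⟩, ⟨y2, h2⟩), Subtype.ext rfl⟩
  rw [← Nat.card_congr (Equiv.ofBijective f hf), Nat.card_prod, Nat.card_prod]
  simp

theorem det_blockHom (y : GL ι F × GL ι F) :
    Matrix.GeneralLinearGroup.det (blockHom y) =
      Matrix.GeneralLinearGroup.det y.1 * Matrix.GeneralLinearGroup.det y.2 :=
  Units.ext (by
    show (fromBlocks (y.1 : Matrix ι ι F) 0 0 (y.2 : Matrix ι ι F)).det = _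
    rw [det_fromBlocks_zero₂₁]; rfl)

theorem exists_good_step (hq : Odd (Fintype.card F)) {k : ℕ} (hk : 1 ≤ k) (hι : Fintype.card ι = 2 ^ k)
    {S : Sylow 2 (GL ι F)} (hS : GoodSylow S) :
    ∃ T : Sylow 2 (GL (ι ⊕ ι) F), GoodSylow T ∧
      ScalarNormalizer ((T : Subgroup (GL (ι ⊕ ι) F)) ⊓ detK (ι ⊕ ι) F) := by
  have hne : Nonempty ι := Fintype.card_pos_iff.1 (by rw [hι]; positivity)
  have h2 := two_ne_zero_of_odd_card hq
  have hcard : Nat.card (wreathTwo (S : Subgroup (GL ι F))) =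
      2 ^ (Nat.card (GL (ι ⊕ ι) F)).factorization 2 := by
    rw [card_wreathTwo, Sylow.card_eq_multiplicity]
    show 2 * (2 ^ v2 (Nat.card (GL ι F)) * 2 ^ v2 (Nat.card (GL ι F))) = 2 ^ v2 (Nat.card (GL (ι ⊕ ι) F))
    rw [v2_card_gl hq, v2_card_gl hq, Fintype.card_sum, hι, ← two_mul, glExp_double hq Fintype.one_lt_card hk,
      ← pow_add, ← pow_succ']
    congr 1
    omega
  refine ⟨Sylow.ofCard _ hcard, ?_⟩
  rw [GoodSylow, Sylow.coe_ofCard]
  set T := wreathTwo (S : Subgroup (GL ι F))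
  obtain ⟨hirr, hc3, hSN⟩ := hS
  set B := (S : Subgroup (GL ι F)) ⊓ detK ι F with hB
  have hT : IsPGroup 2 T := IsPGroup.of_card hcard
  have hBK : ∀ b ∈ B, Matrix.GeneralLinearGroup.det b = 1 := fun b hb => MonoidHom.mem_ker.1 hb.2
  have hl : ∀ b ∈ B, blockHom (b, 1) ∈ T ⊓ detK (ι ⊕ ι) F := fun b hb =>
    ⟨⟨(b, 1), hb.1, one_mem _, Or.inl rfl⟩, MonoidHom.mem_ker.2 (by rw [det_blockHom, hBK b hb, map_one, mul_one])⟩
  have hr : ∀ b ∈ B, blockHom (1, b) ∈ T ⊓ detK (ι ⊕ ι) F := fun b hb =>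
    ⟨⟨(1, b), one_mem _, hb.1, Or.inl rfl⟩, MonoidHom.mem_ker.2 (by rw [det_blockHom, hBK b hb, map_one, mul_one])⟩
  have hdet2 : ∀ s ∈ (S : Subgroup (GL ι F)), ∃ t ∈ (S : Subgroup (GL ι F)),
      Matrix.GeneralLinearGroup.det s * Matrix.GeneralLinearGroup.det t = 1 := fun s hs =>
    ⟨s⁻¹, inv_mem hs, by rw [← map_mul, mul_inv_cancel, map_one]⟩
  have hproj : ∀ s ∈ (S : Subgroup (GL ι F)), ∃ t, blockHom (s, t) ∈ T ⊓ detK (ι ⊕ ι) F := fun s hs => by
    obtain ⟨t, ht, hst⟩ := hdet2 s hs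
    exact ⟨t, ⟨(s, t), hs, ht, Or.inl rfl⟩, MonoidHom.mem_ker.2 (by rw [det_blockHom, hst])⟩
  obtain ⟨y, hy⟩ : ∃ y : GL ι F × GL ι F, blockHom y * swapBlock ∈ T ⊓ detK (ι ⊕ ι) F := by
    have hσ : Matrix.GeneralLinearGroup.det (swapBlock : GL (ι ⊕ ι) F) ^ 2 ^ 1 = 1 := by
      rw [← map_pow, pow_one, pow_two, swapBlock_mul_self, map_one]
    obtain ⟨s, hs, hsd⟩ := exists_mem_det S _ hσ
    refine ⟨(s, 1), ⟨(s, 1), hs, one_mem _, Or.inr rfl⟩, MonoidHom.mem_ker.2 ?_⟩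
    rw [map_mul, det_blockHom, map_one, mul_one, hsd, ← map_mul, swapBlock_mul_self, map_one]
  have hc0 : 3 ≤ Nat.card (T ⊓ detK (ι ⊕ ι) F : Subgroup (GL (ι ⊕ ι) F)) := by
    refine hc3.trans (Nat.card_le_card_of_injective
      (fun b : B => (⟨blockHom (b.1, 1), hl b.1 b.2⟩ : (T ⊓ detK (ι ⊕ ι) F : Subgroup (GL (ι ⊕ ι) F)))) ?_)
    intro b c h
    have := blockHom_injective (congrArg Subtype.val h)
    exact Subtype.ext (congrArg Prod.fst this)
  have hSN0 : ScalarNormalizer (T ⊓ detK (ι ⊕ ι) F) :=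
    scalarNormalizer_block (B := B) (S := (S : Subgroup (GL ι F))) h2 hirr hc3 hl hr
      (fun g hg => hg.1) hproj ⟨y, hy⟩ (hT.to_le inf_le_left) hSN
  refine ⟨⟨irr_block hirr (ne_bot_of_card hc3) hl ⟨y.1, y.2, hy⟩, hc0, fun x hodd hx => hSN0 x hodd ?_⟩, hSN0⟩
  refine mem_normalizer_of_conj fun g hg => ⟨(Subgroup.mem_normalizer_iff.1 hx g).1 hg.1, ?_⟩
  exact MonoidHom.mem_ker.2 (by rw [map_mul, map_mul, MonoidHom.mem_ker.1 hg.2, mul_one, ← map_mul, mul_inv_cancel, map_one])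

end step

theorem exists_good (hq : Odd (Fintype.card F)) {k : ℕ} (hk : 1 ≤ k) :
    ∃ (ι : Type) (_ : Fintype ι) (_ : DecidableEq ι), Fintype.card ι = 2 ^ k ∧
      ∃ S : Sylow 2 (GL ι F), GoodSylow S ∧
        (2 ≤ k → ScalarNormalizer ((S : Subgroup (GL ι F)) ⊓ detK ι F)) := by
  induction k, hk using Nat.le_induction with
  | base =>
    obtain ⟨S, hS⟩ := exists_good_two hq
    exact ⟨Fin 2, inferInstance, inferInstance, by simp, S, hS, fun h => absurd h (by omega)⟩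
  | succ k hk ih =>
    obtain ⟨ι, hF, hD, hι, S, hS, -⟩ := ih
    obtain ⟨T, hT, hT'⟩ := exists_good_step hq hk hι hS
    exact ⟨ι ⊕ ι, inferInstance, inferInstance, by rw [Fintype.card_sum, hι, pow_succ, mul_two], T, hT,
      fun _ => hT'⟩

theorem scalarNormalizer_map {ι κ : Type} [Fintype ι] [DecidableEq ι] [Fintype κ] [DecidableEq κ]
    (e : GL ι F ≃* GL κ F) (hsc : ∀ x, IsScalarGL x → IsScalarGL (e x)) {G : Subgroup (GL ι F)}
    (h : ScalarNormalizer G) : ScalarNormalizer (G.map e.toMonoidHom) := by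
  intro x hodd hx
  obtain ⟨y, rfl⟩ := e.surjective x
  rw [MulEquiv.orderOf_eq] at hodd
  refine hsc y (h y hodd (mem_normalizer_of_conj fun g hg => ?_))
  have := (Subgroup.mem_normalizer_iff.1 hx (e g)).1 (Subgroup.mem_map_of_mem _ hg)
  rw [← map_inv, ← map_mul, ← map_mul] at this
  exact (Subgroup.mem_map_iff_mem (f := e.toMonoidHom) e.injective).1 this

theorem map_conj_normal {G : Type*} [Group G] {N : Subgroup G} [hN : N.Normal] (g : G) :
    N.map (MulAut.conj g).toMonoidHom = N := by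
  ext y
  refine ⟨?_, fun hy => ⟨g⁻¹ * y * g, by simpa using hN.conj_mem y hy g⁻¹, by simp [mul_assoc]⟩⟩
  rintro ⟨z, hz, rfl⟩
  exact hN.conj_mem z hz g

theorem scalarNormalizer_sylow_sl (hq : Odd (Fintype.card F)) {n k : ℕ} (hk : 2 ≤ k) (hn : n = 2 ^ k)
    (S : Sylow 2 (GL (Fin n) F)) :
    ScalarNormalizer ((S : Subgroup (GL (Fin n) F)) ⊓ detK (Fin n) F) := by
  obtain ⟨ι, hFι, hDι, hι, R, -, hR⟩ := exists_good (F := F) hq (show 1 ≤ k by omega)
  let e : ι ≃ Fin n := Fintype.equivFinOfCardEq (hι.trans hn.symm)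
  let φ := glReindex (F := F) e
  let R' : Sylow 2 (GL (Fin n) F) := R.mapSurjective (f := φ.toMonoidHom) φ.surjective
  have hdet : ∀ x, Matrix.GeneralLinearGroup.det (φ x) = Matrix.GeneralLinearGroup.det x := fun x =>
    Units.ext (Matrix.det_reindex_self e _)
  have h1 : ScalarNormalizer (((R : Subgroup (GL ι F)) ⊓ detK ι F).map φ.toMonoidHom) :=
    scalarNormalizer_map φ (fun x ⟨c, hc⟩ => ⟨c, by
      show Matrix.reindexAlgEquiv F F e (x : Matrix ι ι F) = c • 1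
      rw [hc, map_smul, map_one]⟩) (hR hk)
  obtain ⟨g, hg⟩ := MulAction.exists_smul_eq (GL (Fin n) F) R' S
  have h2 := scalarNormalizer_map (MulAut.conj g) (fun x ⟨c, hc⟩ => ⟨c, by
    show (((g * x * g⁻¹ : GL (Fin n) F)) : Matrix (Fin n) (Fin n) F) = _
    rw [Units.val_mul, Units.val_mul, hc, mul_smul_comm, mul_one, smul_mul_assoc, ← Units.val_mul,
      mul_inv_cancel, Units.val_one]⟩) h1
  convert h2 using 1
  rw [← hg, Sylow.coe_subgroup_smul, Subgroup.map_inf _ _ φ.toMonoidHom φ.injective,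
    Subgroup.map_inf _ _ (MulAut.conj g).toMonoidHom (MulAut.conj g).injective]
  have hK : (detK ι F).map φ.toMonoidHom = detK (Fin n) F := by
    ext y
    obtain ⟨x, rfl⟩ := φ.surjective y
    rw [show φ x = φ.toMonoidHom x from rfl, Subgroup.mem_map_iff_mem (f := φ.toMonoidHom) φ.injective]
    show _ ↔ Matrix.GeneralLinearGroup.det (φ x) = 1
    rw [hdet]; rfl
  have hK2 : (detK (Fin n) F).map (MulAut.conj g).toMonoidHom = detK (Fin n) F := map_conj_normal g
  rw [hK, hK2]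
  rfl

end CfsgLib.PronormalPSL
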