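import Mathlib
import Cfsg.Agent.Lib.PronormalPSL.Sylow
import Cfsg.Agent.Lib.PronormalPSL.Criterion
import Cfsg.Agent.Lib.PSL2.Basic

/-!
Sylow 2-subgroups of `PSL_{2^k}(q)`, `q` odd, are self-normalising when `k ≥ 2` or `8 ∣ |PSL₂(q)|`.
-/

set_option autoImplicit false
set_option linter.unusedSectionVars false

namespace CfsgLib.PronormalPSL

open Matrix

variable {F : Type*} [Field F] [Fintype F] {n : ℕ}

local notation "SLn" => Matrix.SpecialLinearGroup (Fin n) F
local notation "PSLn" => Matrix.ProjectiveSpecialLinearGroup (Fin n) F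

/-- `SL` inside `GL`. -/
noncomputable abbrev slGL (n : ℕ) (F : Type*) [Field F] :
    Matrix.SpecialLinearGroup (Fin n) F →* GL (Fin n) F := Matrix.SpecialLinearGroup.toGL

theorem slGL_injective : Function.Injective (slGL n F) := fun a b h =>
  Subtype.ext (congrArg Units.val h)

theorem mem_range_slGL_iff {g : GL (Fin n) F} :
    g ∈ (slGL n F).range ↔ g ∈ detK (Fin n) F := by
  constructor
  · rintro ⟨a, rfl⟩
    exact MonoidHom.mem_ker.2 (Units.ext a.2)
  · intro hg
    exact ⟨⟨g.1, congrArg Units.val (MonoidHom.mem_ker.1 hg)⟩, Units.ext rfl⟩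

theorem scalar_eq_of_mem_center {z : SLn} (hz : z ∈ Subgroup.center SLn) :
    ∃ c : F, c ^ n = 1 ∧ (z : Matrix (Fin n) (Fin n) F) = c • 1 := by
  obtain ⟨r, hr, hrM⟩ := Matrix.SpecialLinearGroup.mem_center_iff.1 hz
  exact ⟨r, by simpa using hr, by rw [← hrM]; simp [Matrix.smul_one_eq_diagonal]⟩

theorem isPGroup_center {k : ℕ} (hn : n = 2 ^ k) : IsPGroup 2 (Subgroup.center SLn) := by
  rintro ⟨z, hz⟩
  obtain ⟨c, hc, hzc⟩ := scalar_eq_of_mem_center hz
  refine ⟨k, Subtype.ext (Subtype.ext ?_)⟩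
  show ((z ^ 2 ^ k : SLn) : Matrix (Fin n) (Fin n) F) = 1
  rw [Matrix.SpecialLinearGroup.coe_pow, hzc, _root_.smul_pow, one_pow, ← hn, hc, one_smul]

/-- The preimage of a Sylow 2-subgroup of `PSL_{2^k}`. -/
noncomputable def liftSylow {k : ℕ} (hn : n = 2 ^ k) (P : Sylow 2 PSLn) : Sylow 2 SLn where
  toSubgroup := (P : Subgroup PSLn).comap (QuotientGroup.mk' _)
  isPGroup' := P.isPGroup'.comap_of_ker_isPGroup _ (by rw [QuotientGroup.ker_mk']; exact isPGroup_center hn)
  is_maximal' := fun {Q} hQ hle => by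
    refine le_antisymm (fun x hx => ?_) hle
    have h1 : (P : Subgroup PSLn) ≤ Q.map (QuotientGroup.mk' _) := fun y hy => by
      obtain ⟨x, rfl⟩ := QuotientGroup.mk_surjective y
      exact ⟨x, hle hy, rfl⟩
    rw [Subgroup.mem_comap, ← P.is_maximal' (hQ.map _) h1]
    exact Subgroup.mem_map_of_mem _ hx

theorem liftSylow_coe {k : ℕ} (hn : n = 2 ^ k) (P : Sylow 2 PSLn) :
    (liftSylow hn P : Subgroup SLn) = (P : Subgroup PSLn).comap (QuotientGroup.mk' _) := rfl

theorem sylow_gl_inf {Q : Sylow 2 SLn} {S : Sylow 2 (GL (Fin n) F)}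
    (h : (Q : Subgroup SLn).map (slGL n F) ≤ S) :
    (S : Subgroup (GL (Fin n) F)) ⊓ detK (Fin n) F = (Q : Subgroup SLn).map (slGL n F) := by
  refine le_antisymm (fun g hg => ?_) fun g hg => ⟨h hg, ?_⟩
  · obtain ⟨a, rfl⟩ := mem_range_slGL_iff.2 hg.2
    refine Subgroup.mem_map_of_mem _ ?_
    have hQ' : IsPGroup 2 ((S : Subgroup (GL (Fin n) F)).comap (slGL n F)) :=
      S.isPGroup'.comap_of_injective _ slGL_injective
    rw [← Q.is_maximal' hQ' (Subgroup.map_le_iff_le_comap.1 h)]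
    exact hg.1
  · obtain ⟨a, -, rfl⟩ := hg
    exact mem_range_slGL_iff.1 ⟨a, rfl⟩

theorem normalizer_le_of_scalar {k : ℕ} (hn : n = 2 ^ k) (P : Sylow 2 PSLn)
    (h : ScalarNormalizer ((liftSylow hn P : Subgroup SLn).map (slGL n F))) :
    Subgroup.normalizer ((P : Subgroup PSLn) : Set PSLn) ≤ P := by
  have hQ : Subgroup.normalizer ((liftSylow hn P : Subgroup SLn) : Set SLn) ≤ liftSylow hn P := by
    refine normalizer_le_of_odd _ fun x hx hodd => ?_
    have hx' : slGL n F x ∈ Subgroup.normalizer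
        (((liftSylow hn P : Subgroup SLn).map (slGL n F)) : Set (GL (Fin n) F)) :=
      mem_normalizer_of_conj fun g hg => by
        obtain ⟨a, ha, rfl⟩ := hg
        rw [← map_inv, ← map_mul, ← map_mul]
        exact Subgroup.mem_map_of_mem _ ((Subgroup.mem_normalizer_iff.1 hx a).1 ha)
    obtain ⟨c, hc⟩ := h _ (by rwa [orderOf_injective _ slGL_injective]) hx'
    have hxc : (x : Matrix (Fin n) (Fin n) F) = c • 1 := hc
    have hcn : c ^ n = 1 := by
      have := x.2
      rw [hxc, det_smul, det_one, mul_one, Fintype.card_fin] at this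
      exact this
    have h00 : Nonempty (Fin n) := ⟨⟨0, by rw [hn]; positivity⟩⟩
    have hco : c ^ orderOf x = 1 := by
      have h1 := congrArg (fun y : SLn => (y : Matrix (Fin n) (Fin n) F)) (pow_orderOf_eq_one x)
      simp only [Matrix.SpecialLinearGroup.coe_pow, Matrix.SpecialLinearGroup.coe_one, hxc, _root_.smul_pow, one_pow] at h1
      obtain ⟨i⟩ := h00
      simpa using congrFun (congrFun h1 i) i
    apply Subtype.ext
    rw [hxc, Matrix.SpecialLinearGroup.coe_one]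
    have hc1 : c = 1 := by
      have hd := Nat.dvd_gcd (orderOf_dvd_of_pow_eq_one hco)
        (orderOf_dvd_of_pow_eq_one (show c ^ 2 ^ k = 1 by rw [← hn]; exact hcn))
      rw [Nat.Coprime.pow_right k (Nat.coprime_two_right.2 hodd), Nat.dvd_one, orderOf_eq_one_iff] at hd
      exact hd
    rw [hc1, one_smul]
  intro y hy
  obtain ⟨x, rfl⟩ := QuotientGroup.mk_surjective y
  refine hQ ?_
  refine mem_normalizer_of_conj fun a ha => ?_
  show QuotientGroup.mk' _ (x * a * x⁻¹) ∈ (P : Subgroup PSLn)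
  rw [map_mul, map_mul, map_inv]
  exact (Subgroup.mem_normalizer_iff.1 hy _).1 ha

theorem normalizer_le_of_four_le (hq : Odd (Fintype.card F)) {k : ℕ} (hk : 2 ≤ k) (hn : n = 2 ^ k)
    (P : Sylow 2 PSLn) : Subgroup.normalizer ((P : Subgroup PSLn) : Set PSLn) ≤ P := by
  refine normalizer_le_of_scalar hn P ?_
  obtain ⟨S, hS⟩ := ((liftSylow hn P).isPGroup'.map (slGL n F)).exists_le_sylow
  rw [← sylow_gl_inf hS]
  exact scalarNormalizer_sylow_sl hq hk hn S

end CfsgLib.PronormalPSL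

namespace CfsgLib.PronormalPSL

open Matrix

variable {F : Type*} [Field F] [Fintype F]

local notation "SL2" => Matrix.SpecialLinearGroup (Fin 2) F
local notation "PSL2" => Matrix.ProjectiveSpecialLinearGroup (Fin 2) F

theorem exists_pair_mem_lift (h2 : (2 : F) ≠ 0) (P : Sylow 2 PSL2) :
    ∃ I J : GL (Fin 2) F, I ∈ (liftSylow (k := 1) rfl P : Subgroup SL2).map (slGL 2 F) ∧
      J ∈ (liftSylow (k := 1) rfl P : Subgroup SL2).map (slGL 2 F) ∧
      (I : Matrix (Fin 2) (Fin 2) F) * J = -((J : Matrix (Fin 2) (Fin 2) F) * I) := by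
  obtain ⟨I, J, hIK, hJK, hI, hJ, hIJ⟩ := exists_quaternion_pair h2
  obtain ⟨a, rfl⟩ := mem_range_slGL_iff.2 hIK
  obtain ⟨b, rfl⟩ := mem_range_slGL_iff.2 hJK
  obtain ⟨Q, hQ⟩ := ((isPGroup_pair hI hJ hIJ).comap_of_injective _ slGL_injective).exists_le_sylow
  obtain ⟨g, hg⟩ := MulAction.exists_smul_eq SL2 Q (liftSylow (k := 1) rfl P)
  have hmem : ∀ x : SL2, slGL 2 F x ∈ Subgroup.zpowers (slGL 2 F a) ⊔ Subgroup.zpowers (slGL 2 F b) →
      slGL 2 F (g * x * g⁻¹) ∈ (liftSylow (k := 1) rfl P : Subgroup SL2).map (slGL 2 F) := fun x hx => by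
    refine Subgroup.mem_map_of_mem _ ?_
    rw [← hg, Sylow.coe_subgroup_smul]
    exact ⟨x, hQ hx, rfl⟩
  refine ⟨_, _, hmem a (Subgroup.mem_sup_left (Subgroup.mem_zpowers _)),
    hmem b (Subgroup.mem_sup_right (Subgroup.mem_zpowers _)), ?_⟩
  have e : ∀ u v : SL2, slGL 2 F (g * u * g⁻¹) * slGL 2 F (g * v * g⁻¹) =
      slGL 2 F g * (slGL 2 F u * slGL 2 F v) * slGL 2 F g⁻¹ := fun u v => by
    rw [← map_mul, ← map_mul, ← map_mul, ← map_mul]; congr 1; group
  rw [← Units.val_mul, ← Units.val_mul, e, e, Units.val_mul, Units.val_mul, Units.val_mul (slGL 2 F a), hIJ,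
    Units.val_mul (slGL 2 F g * (slGL 2 F b * slGL 2 F a)), Units.val_mul (slGL 2 F g) (slGL 2 F b * slGL 2 F a),
    Units.val_mul (slGL 2 F b), mul_neg, neg_mul]

theorem normalizer_le_of_eight (hq : Odd (Fintype.card F))
    (h8 : 8 ∣ Nat.card PSL2) (P : Sylow 2 PSL2) :
    Subgroup.normalizer ((P : Subgroup PSL2) : Set PSL2) ≤ P := by
  have h2 := two_ne_zero_of_odd_card hq
  refine normalizer_le_of_scalar (k := 1) rfl P ?_
  obtain ⟨I, J, hI, hJ, hIJ⟩ := exists_pair_mem_lift h2 P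
  refine scalar_of_normalizes_two h2 _ ((liftSylow (k := 1) rfl P).isPGroup'.map _) hI hJ hIJ ?_
  have himg : ((liftSylow (k := 1) rfl P : Subgroup SL2).map (slGL 2 F)).map
      (QuotientGroup.mk' (Subgroup.center (GL (Fin 2) F))) =
      (P : Subgroup PSL2).map ProjectiveSpecialLinearGroup.toPGL := by
    rw [Subgroup.map_map, liftSylow_coe]
    conv_rhs => rw [← Subgroup.map_comap_eq_self_of_surjective (QuotientGroup.mk'_surjective _) (P : Subgroup PSL2),
      Subgroup.map_map]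
    rfl
  rw [himg]
  refine lt_of_lt_of_eq ?_ (Nat.card_congr
    ((P : Subgroup PSL2).equivMapOfInjective _ ProjectiveSpecialLinearGroup.toPGL_injective).toEquiv)
  rw [Sylow.card_eq_multiplicity]
  have h3 := (pow_dvd_iff_le_v2 (a := 3) Nat.card_pos.ne').1 h8
  exact lt_of_lt_of_le (by norm_num) (Nat.pow_le_pow_right (show 0 < 2 by norm_num) h3)

end CfsgLib.PronormalPSL
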