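import Mathlib
import Cfsg.Agent.Lib.PronormalPSL.Odd
import Cfsg.Agent.Lib.PSL2.Dickson
import Cfsg.Agent.Lib.Recog.ClassSizesPSLTwoSplit
import Cfsg.Agent.Lib.PSL2.Involution

/-!
Subgroups of odd index of `PSL₂(q)`, `q ≡ ±3 mod 8`, are pronormal.
-/

set_option autoImplicit false
set_option linter.unusedSectionVars false

namespace CfsgLib.PronormalPSL

open Matrix

variable {F : Type*} [Field F] [Fintype F]

local notation "SL2" => Matrix.SpecialLinearGroup (Fin 2) F
local notation "PSL2" => Matrix.ProjectiveSpecialLinearGroup (Fin 2) F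

theorem isCyclic_odd_of_dihedral {k : ℕ} {G : Type*} [Group G] (e : G ≃* DihedralGroup k) (O : Subgroup G)
    [Finite O] (hodd : Odd (Nat.card O)) : IsCyclic O := by
  have hle : O.map e.toMonoidHom ≤ Subgroup.zpowers (DihedralGroup.r (1 : ZMod k)) := by
    rintro _ ⟨x, hx, rfl⟩
    have ho : Odd (orderOf (e x)) := by
      rw [MulEquiv.orderOf_eq]
      exact Odd.of_dvd_nat hodd (Subgroup.orderOf_dvd_natCard _ hx)
    show e x ∈ _
    rcases hex : e x with i | i
    · exact ⟨(i.cast : ℤ), by simp [DihedralGroup.r_one_zpow]⟩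
    · rw [hex, DihedralGroup.orderOf_sr] at ho
      exact absurd ho (by decide)
  have := Subgroup.isCyclic_of_le hle
  exact isCyclic_of_surjective (O.equivMapOfInjective e.toMonoidHom e.injective).symm
    (O.equivMapOfInjective e.toMonoidHom e.injective).symm.surjective

theorem eq_of_card_eq_of_cyclic {G : Type*} [Group G] [Finite G] {O A B : Subgroup G} [IsCyclic O]
    (hA : A ≤ O) (hB : B ≤ O) (h : Nat.card A = Nat.card B) : A = B := by
  classical
  have := Fintype.ofFinite O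
  let T : Finset O := Finset.univ.filter fun x => x ^ Nat.card A = 1
  have hsub : ∀ (C : Subgroup G), C ≤ O → Nat.card C = Nat.card A →
      ∀ x : O, (x : G) ∈ C ↔ x ∈ T := by
    intro C hC hcard
    have h1 : (Finset.univ.filter fun x : O => (x : G) ∈ C) ⊆ T := fun x hx => by
      simp only [T, Finset.mem_filter, Finset.mem_univ, true_and] at hx ⊢
      apply Subtype.ext
      rw [SubmonoidClass.coe_pow, OneMemClass.coe_one, ← hcard]
      exact congrArg Subtype.val (pow_card_eq_one' (x := (⟨x, hx⟩ : C)))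
    have hc : (Finset.univ.filter fun x : O => (x : G) ∈ C).card = Nat.card C := by
      rw [← Fintype.card_subtype, ← Nat.card_eq_fintype_card]
      exact Nat.card_congr ⟨fun x => ⟨x.1.1, x.2⟩, fun x => ⟨⟨x.1, hC x.2⟩, x.2⟩, fun x => rfl, fun x => rfl⟩
    have hT : T.card ≤ Nat.card A := IsCyclic.card_pow_eq_one_le Nat.card_pos
    have heq := Finset.eq_of_subset_of_card_le h1 (by rw [hc, hcard]; exact hT)
    intro x
    rw [← heq]
    simp
  ext x
  constructor
  · intro hx; exact (hsub B hB h.symm ⟨x, hA hx⟩).2 ((hsub A hA rfl ⟨x, hA hx⟩).1 hx)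
  · intro hx; exact (hsub A hA rfl ⟨x, hB hx⟩).2 ((hsub B hB h.symm ⟨x, hB hx⟩).1 hx)

theorem card_sylow_eq_four (hq : Odd (Fintype.card F)) (h8 : ¬ 8 ∣ Nat.card PSL2) (P : Sylow 2 PSL2) :
    Nat.card (P : Subgroup PSL2) = 4 := by
  rw [Sylow.card_eq_multiplicity]
  have h4 : 2 ^ 2 ∣ Nat.card PSL2 := by
    have h := CfsgLib.PSL2.card_psl (F := F)
    rw [CfsgLib.PSL2.gcd_eq_two hq] at h
    have h' : 8 ∣ 2 * Nat.card PSL2 := by
      rw [h, mul_left_comm, mul_comm (Fintype.card F + 1)]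
      exact Dvd.dvd.mul_left (eight_dvd_sq_sub_one hq) _
    omega
  have h2 := (pow_dvd_iff_le_v2 Nat.card_pos.ne').1 h4
  have h3 : ¬ 3 ≤ v2 (Nat.card PSL2) := fun h => h8 ((pow_dvd_iff_le_v2 (a := 3) Nat.card_pos.ne').2 h)
  show 2 ^ v2 _ = 4
  rw [show v2 (Nat.card PSL2) = 2 by omega]
  norm_num

theorem not_isCyclic_sylow (hq : Odd (Fintype.card F)) (h8 : ¬ 8 ∣ Nat.card PSL2) (P : Sylow 2 PSL2) :
    ∃ i j : PSL2, i ∈ (P : Subgroup PSL2) ∧ j ∈ (P : Subgroup PSL2) ∧ i ≠ 1 ∧ j ≠ 1 ∧ i ≠ j ∧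
      i * i = 1 ∧ j * j = 1 ∧
      (∀ y : PSL2, Odd (orderOf y) → Commute y i → Commute y j → y = 1) ∧
      ∀ x ∈ (P : Subgroup PSL2), x = 1 ∨ x = i ∨ x = j ∨ x = i * j := by
  classical
  have h2 := two_ne_zero_of_odd_card hq
  obtain ⟨I, J, hI, hJ, hIJ⟩ := exists_pair_mem_lift h2 P
  obtain ⟨a, ha, rfl⟩ := hI
  obtain ⟨b, hb, rfl⟩ := hJ
  let π := QuotientGroup.mk' (Subgroup.center SL2)
  set A := (a : Matrix (Fin 2) (Fin 2) F)
  set B := (b : Matrix (Fin 2) (Fin 2) F)
  replace hIJ : A * B = -(B * A) := hIJ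
  have hne0 : ∀ u : SL2, (u : Matrix (Fin 2) (Fin 2) F) ≠ 0 := fun u h => by
    have := u.2
    rw [h, det_zero] at this
    exact zero_ne_one this
  have hnc : ∀ (M N : Matrix (Fin 2) (Fin 2) F), M * N = -(N * M) → M * N ≠ 0 → ∀ c : F, M ≠ c • 1 := by
    intro M N h h0 c hc
    rw [hc, smul_mul_assoc, one_mul, mul_smul_comm, mul_one, eq_neg_iff_add_eq_zero, ← two_smul F, smul_smul,
      smul_eq_zero] at h
    rcases h with h | h
    · rcases mul_eq_zero.1 h with h | h
      · exact h2 h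
      · exact h0 (by rw [hc, h, zero_smul, zero_mul])
    · exact h0 (by rw [h, mul_zero])
  have hAB0 : A * B ≠ 0 := by rw [← Matrix.SpecialLinearGroup.coe_mul]; exact hne0 _
  have hBA : B * A = -(A * B) := by rw [hIJ, neg_neg]
  have hA := hnc A B hIJ hAB0
  have hB := hnc B A hBA (by rw [← Matrix.SpecialLinearGroup.coe_mul]; exact hne0 _)
  have hcen : ∀ u : SL2, π u = 1 → ∃ c : F, (u : Matrix (Fin 2) (Fin 2) F) = c • 1 := fun u h => by
    obtain ⟨c, -, hc⟩ := scalar_eq_of_mem_center ((QuotientGroup.eq_one_iff u).1 h)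
    exact ⟨c, hc⟩
  have hi1 : π a ≠ 1 := fun h => by obtain ⟨c, hc⟩ := hcen a h; exact hA c hc
  have hj1 : π b ≠ 1 := fun h => by obtain ⟨c, hc⟩ := hcen b h; exact hB c hc
  have hij : π a ≠ π b := by
    intro h
    obtain ⟨c, hc⟩ := hcen (a⁻¹ * b) (by rw [map_mul, map_inv, h, inv_mul_cancel])
    have hbB : B = c • A := by
      show (b : Matrix (Fin 2) (Fin 2) F) = c • (a : Matrix (Fin 2) (Fin 2) F)
      rw [show b = a * (a⁻¹ * b) by group, Matrix.SpecialLinearGroup.coe_mul, hc, mul_smul_comm, mul_one]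
    rw [hbB, mul_smul_comm, smul_mul_assoc, eq_neg_iff_add_eq_zero, ← two_smul F, smul_smul, smul_eq_zero,
      ← Matrix.SpecialLinearGroup.coe_mul] at hIJ
    rcases hIJ with h | h
    · rcases mul_eq_zero.1 h with h | h
      · exact h2 h
      · exact hne0 b (by show B = 0; rw [hbB, h, zero_smul])
    · exact hne0 _ h
  have hPc := card_sylow_eq_four hq h8 P
  have hsq : ∀ u, π u ∈ (P : Subgroup PSL2) → π u ≠ 1 → π u * π u ≠ 1 →
      ∀ x ∈ (P : Subgroup PSL2), x ∈ Subgroup.zpowers (π u) := by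
    intro u hu hu1 hu2 x hx
    have ho : orderOf (π u) = 4 := by
      refine orderOf_eq_prime_pow (p := 2) (n := 1) (by rw [pow_one, pow_two]; exact hu2) ?_
      have h := congrArg Subtype.val (pow_card_eq_one' (x := (⟨π u, hu⟩ : (P : Subgroup PSL2))))
      rw [hPc] at h
      exact h
    have he : Subgroup.zpowers (π u) = (P : Subgroup PSL2) :=
      Subgroup.eq_of_le_of_card_ge (Subgroup.zpowers_le.2 hu) (by rw [hPc, Nat.card_zpowers, ho])
    rw [he]; exact hx
  have hcomm_ne : ¬ (Commute a b) := fun h => by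
    have e : A * B = B * A := congrArg (fun u : SL2 => (u : Matrix (Fin 2) (Fin 2) F)) h.eq
    rw [hIJ, neg_eq_iff_add_eq_zero, ← two_smul F, smul_eq_zero] at e
    exact e.elim h2 fun e' => hne0 (b * a) (by rw [Matrix.SpecialLinearGroup.coe_mul]; exact e')
  have hsq2 : ∀ u v : SL2, π u ∈ (P : Subgroup PSL2) → π v ∈ (P : Subgroup PSL2) → π u ≠ 1 →
      ¬ Commute u v → π u * π u = 1 := by
    intro u v hu hv hu1 hnco
    by_contra h
    obtain ⟨j, hj⟩ := hsq u hu hu1 h (π v) hv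
    obtain ⟨c, hc⟩ := hcen ((u ^ j)⁻¹ * v) (by rw [map_mul, map_inv, map_zpow, ← hj, inv_mul_cancel])
    apply hnco
    have hcz : Commute u ((u ^ j)⁻¹ * v) := Subtype.ext (by
      rw [Matrix.SpecialLinearGroup.coe_mul u, Matrix.SpecialLinearGroup.coe_mul ((u ^ j)⁻¹ * v) u, hc,
        smul_mul_assoc, one_mul, mul_smul_comm, mul_one])
    have := (Commute.self_zpow u j).mul_right hcz
    rwa [mul_inv_cancel_left] at this
  refine ⟨π a, π b, ha, hb, hi1, hj1, hij, hsq2 a b ha hb hi1 hcomm_ne,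
    hsq2 b a hb ha hj1 (fun h => hcomm_ne h.symm), ?_, ?_⟩
  · -- odd elements commuting with both
    intro y hy hyi hyj
    obtain ⟨x₀, rfl⟩ := QuotientGroup.mk'_surjective (Subgroup.center SL2) y
    obtain ⟨t, ht⟩ := hy
    set x := (x₀ ^ 2) ^ (t + 1)
    have hxy : π x = π x₀ := by
      rw [map_pow, map_pow, ← pow_mul, show 2 * (t + 1) = orderOf (π x₀) + 1 by
        show 2 * (t + 1) = orderOf ((QuotientGroup.mk' (Subgroup.center SL2)) x₀) + 1
        omega, pow_succ, pow_orderOf_eq_one, one_mul]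
    have hxo : x ^ (2 * t + 1) = 1 := by
      obtain ⟨c, hc2, hc⟩ := scalar_eq_of_mem_center ((QuotientGroup.eq_one_iff (x₀ ^ (2 * t + 1))).1 (by
        rw [← ht, QuotientGroup.mk_pow]; exact pow_orderOf_eq_one _))
      have h1 : (x₀ ^ (2 * t + 1)) ^ 2 = 1 := Subtype.ext (by
        rw [Matrix.SpecialLinearGroup.coe_pow, hc, _root_.smul_pow, one_pow, hc2, one_smul]; rfl)
      rw [show x = (x₀ ^ 2) ^ (t + 1) from rfl, ← pow_mul, ← pow_mul,
        show 2 * ((t + 1) * (2 * t + 1)) = (2 * t + 1) * 2 * (t + 1) by ring, pow_mul, pow_mul, h1, one_pow]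
    have hcom : ∀ u : SL2, Commute (π x₀) (π u) →
        (x : Matrix (Fin 2) (Fin 2) F) * u = (u : Matrix (Fin 2) (Fin 2) F) * x := by
      intro u hu
      obtain ⟨c, hc⟩ := hcen (u⁻¹ * x⁻¹ * u * x) (by
        simp only [map_mul, map_inv, hxy]
        rw [mul_assoc ((π u)⁻¹ * (π x₀)⁻¹), ← hu.eq]; group)
      have h1 : (x : Matrix (Fin 2) (Fin 2) F) * u * (u⁻¹ * x⁻¹ * u * x : SL2) = c • ((x : Matrix (Fin 2) (Fin 2) F) * u) := by
        rw [hc, mul_smul_comm, mul_one]
      rw [← Matrix.SpecialLinearGroup.coe_mul, ← Matrix.SpecialLinearGroup.coe_mul,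
        show x * u * (u⁻¹ * x⁻¹ * u * x) = u * x by group] at h1
      have hiter : ∀ m : ℕ, (u : Matrix (Fin 2) (Fin 2) F) * ((x ^ m : SL2) : Matrix (Fin 2) (Fin 2) F) =
          c ^ m • (((x ^ m : SL2) : Matrix (Fin 2) (Fin 2) F) * (u : Matrix (Fin 2) (Fin 2) F)) := by
        intro m
        induction m with
        | zero => simp
        | succ m ih =>
          rw [pow_succ x, Matrix.SpecialLinearGroup.coe_mul, ← mul_assoc, ih, smul_mul_assoc, mul_assoc,
            ← Matrix.SpecialLinearGroup.coe_mul u x, h1, Matrix.SpecialLinearGroup.coe_mul x u, mul_smul_comm,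
            smul_smul, mul_assoc, pow_succ]
      have hco : c ^ (2 * t + 1) = 1 := by
        have h := hiter (2 * t + 1)
        rw [hxo, Matrix.SpecialLinearGroup.coe_one, mul_one, one_mul] at h
        have h1 : (c ^ (2 * t + 1) - 1) • (u : Matrix (Fin 2) (Fin 2) F) = 0 := by
          rw [sub_smul, one_smul, ← h, sub_self]
        exact sub_eq_zero.1 ((smul_eq_zero.1 h1).resolve_right (hne0 u))
      have hc2 : c ^ 2 = 1 := by
        have hd := congrArg Matrix.det hc
        rw [det_smul, det_one, mul_one, Fintype.card_fin] at hd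
        exact hd.symm.trans (u⁻¹ * x⁻¹ * u * x : SL2).2
      have hc1 : c = 1 := by rwa [pow_succ, pow_mul, hc2, one_pow, one_mul] at hco
      rw [hc1, one_smul] at h1
      rw [← Matrix.SpecialLinearGroup.coe_mul, ← Matrix.SpecialLinearGroup.coe_mul]
      exact h1.symm
    obtain ⟨r, s, hrs⟩ := commutant_two hA (hcom a hyi).symm
    have hs0 : s = 0 := by
      have h := hcom b hyj
      rw [hrs, add_mul, mul_add, smul_mul_assoc, one_mul, mul_smul_comm, mul_one, smul_mul_assoc,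
        mul_smul_comm, add_left_cancel_iff, hIJ, smul_neg, neg_eq_iff_add_eq_zero, ← two_smul F, smul_smul,
        smul_eq_zero] at h
      rcases h with h | h
      · exact (mul_eq_zero.1 h).resolve_left h2
      · exact absurd (by rw [hIJ, h, neg_zero]) hAB0
    rw [hs0, zero_smul, add_zero] at hrs
    rw [← hxy]
    refine (QuotientGroup.eq_one_iff x).2 (Subgroup.mem_center_iff.2 fun u => Subtype.ext ?_)
    rw [Matrix.SpecialLinearGroup.coe_mul, Matrix.SpecialLinearGroup.coe_mul, hrs, mul_smul_comm, mul_one,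
      smul_mul_assoc, one_mul]
  · intro x hx
    by_contra hno
    push Not at hno
    have hsub : (({1, π a, π b, π a * π b, x} : Finset PSL2) : Set PSL2) ⊆ (P : Subgroup PSL2) := by
      intro u hu
      simp at hu
      rcases hu with rfl | rfl | rfl | rfl | rfl
      · exact one_mem _
      · exact ha
      · exact hb
      · exact mul_mem ha hb
      · exact hx
    have h5 : ({1, π a, π b, π a * π b, x} : Finset PSL2).card = 5 := by
      have haa : π a * π a = 1 := hsq2 a b ha hb hi1 hcomm_ne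
      have k1 : (1 : PSL2) ≠ π a * π b := fun h => hij
        ((eq_inv_of_mul_eq_one_left h.symm).trans (inv_eq_of_mul_eq_one_right
          (hsq2 b a hb ha hj1 (fun h => hcomm_ne h.symm))))
      have k2 : π a ≠ π a * π b := fun h => hj1 (left_eq_mul.1 h)
      have k3 : π b ≠ π a * π b := fun h => hi1 (right_eq_mul.1 h)
      simp [hi1.symm, hj1.symm, hij, k1, k2, k3, hno.1.symm, hno.2.1.symm, hno.2.2.1.symm, hno.2.2.2.symm]
    have := Set.ncard_le_ncard hsub (Set.toFinite _)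
    rw [Set.ncard_coe_finset, h5, ← Nat.card_coe_set_eq] at this
    have : 5 ≤ Nat.card (P : Subgroup PSL2) := this
    omega

theorem card_normalizer_sylow (hq : Odd (Fintype.card F)) (h8 : ¬ 8 ∣ Nat.card PSL2) (P : Sylow 2 PSL2) :
    ∃ m, (m = 1 ∨ m = 3 ∨ m = 5) ∧
      Nat.card (Subgroup.normalizer ((P : Subgroup PSL2) : Set PSL2)) = 4 * m := by
  classical
  obtain ⟨i, j, hi, hj, hi1, hj1, hij, hii, hjj, hodd, hP⟩ := not_isCyclic_sylow hq h8 P
  set N := Subgroup.normalizer ((P : Subgroup PSL2) : Set PSL2)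
  have := Fintype.ofFinite N
  let φ : N → PSL2 × PSL2 := fun y => ((y : PSL2) * i * (y : PSL2)⁻¹, (y : PSL2) * j * (y : PSL2)⁻¹)
  let T : Finset (PSL2 × PSL2) :=
    {(i, j), (i, i * j), (j, i), (j, i * j), (i * j, i), (i * j, j)}
  have himg : Finset.univ.image φ ⊆ T := by
    intro z hz
    obtain ⟨y, -, rfl⟩ := Finset.mem_image.1 hz
    have hmem : ∀ u ∈ (P : Subgroup PSL2), (y : PSL2) * u * (y : PSL2)⁻¹ ∈ (P : Subgroup PSL2) := fun u hu =>
      (Subgroup.mem_normalizer_iff.1 y.2 u).1 hu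
    have hne : ∀ u v : PSL2, u ≠ v → (y : PSL2) * u * (y : PSL2)⁻¹ ≠ (y : PSL2) * v * (y : PSL2)⁻¹ :=
      fun u v h e => h (mul_left_cancel (mul_right_cancel e))
    have h1 := hne i 1 hi1
    have h2 := hne j 1 hj1
    have h3 := hne i j hij
    rw [mul_one, mul_inv_cancel] at h1 h2
    show ((y : PSL2) * i * (y : PSL2)⁻¹, (y : PSL2) * j * (y : PSL2)⁻¹) ∈ T
    simp only [T, Finset.mem_insert, Finset.mem_singleton, Prod.mk.injEq]
    rcases hP _ (hmem i hi) with a | a | a | a <;> rcases hP _ (hmem j hj) with b | b | b | b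
    all_goals first
      | exact absurd a h1
      | exact absurd b h2
      | exact absurd (a.trans b.symm) h3
      | (rw [a, b]; simp)
  have hfib : ∀ z ∈ Finset.univ.image φ, (Finset.univ.filter fun y => φ y = z).card ≤ 4 := by
    intro z hz
    obtain ⟨y₀, -, rfl⟩ := Finset.mem_image.1 hz
    have hc : ∀ u : PSL2, Commute u i → Commute u j → u ∈ (P : Subgroup PSL2) := by
      intro u hui huj
      obtain ⟨a, r, hr, hur⟩ := Nat.exists_eq_two_pow_mul_odd (orderOf_pos u).ne'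
      have h1 : u ^ 2 ^ a = 1 := hodd _ (Odd.of_dvd_nat hr (orderOf_dvd_of_pow_eq_one (by
        rw [← pow_mul, ← hur, pow_orderOf_eq_one]))) (hui.pow_left _) (huj.pow_left _)
      have hz : IsPGroup 2 (Subgroup.zpowers u) := by
        rintro ⟨y, hy⟩
        obtain ⟨k, rfl⟩ := hy
        exact ⟨a, Subtype.ext (by
          show (u ^ k) ^ 2 ^ a = 1
          rw [← zpow_natCast (u ^ k), ← _root_.zpow_mul, mul_comm, _root_.zpow_mul, zpow_natCast, h1,
            _root_.one_zpow])⟩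
      have hsup : IsPGroup 2 (Subgroup.zpowers u ⊔ (P : Subgroup PSL2) : Subgroup PSL2) := by
        refine hz.to_sup_of_normal_right' P.isPGroup' (Subgroup.zpowers_le.2 (mem_normalizer_of_conj fun s hs => ?_))
        have hcs : Commute u s := by
          rcases hP s hs with rfl | rfl | rfl | rfl
          · exact Commute.one_right u
          · exact hui
          · exact huj
          · exact hui.mul_right huj
        rw [hcs.eq, mul_inv_cancel_right]; exact hs
      rw [← P.is_maximal' hsup le_sup_right]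
      exact Subgroup.mem_sup_left (Subgroup.mem_zpowers u)
    rw [← Fintype.card_subtype, ← Nat.card_eq_fintype_card, ← card_sylow_eq_four hq h8 P]
    refine Nat.card_le_card_of_injective
      (fun y : {y : N // φ y = φ y₀} => (⟨(y₀ : PSL2)⁻¹ * (y.1 : PSL2), ?_⟩ : (P : Subgroup PSL2))) ?_
    · have hy := Prod.ext_iff.1 y.2
      refine hc _ ?_ ?_
      · show (y₀ : PSL2)⁻¹ * (y.1 : PSL2) * i = i * ((y₀ : PSL2)⁻¹ * (y.1 : PSL2))
        calc (y₀ : PSL2)⁻¹ * (y.1 : PSL2) * i = (y₀ : PSL2)⁻¹ * ((y.1 : PSL2) * i * (y.1 : PSL2)⁻¹) * (y.1 : PSL2) := by group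
          _ = (y₀ : PSL2)⁻¹ * ((y₀ : PSL2) * i * (y₀ : PSL2)⁻¹) * (y.1 : PSL2) := by rw [show (y.1 : PSL2) * i * (y.1 : PSL2)⁻¹ = (y₀ : PSL2) * i * (y₀ : PSL2)⁻¹ from hy.1]
          _ = _ := by group
      · show (y₀ : PSL2)⁻¹ * (y.1 : PSL2) * j = j * ((y₀ : PSL2)⁻¹ * (y.1 : PSL2))
        calc (y₀ : PSL2)⁻¹ * (y.1 : PSL2) * j = (y₀ : PSL2)⁻¹ * ((y.1 : PSL2) * j * (y.1 : PSL2)⁻¹) * (y.1 : PSL2) := by group
          _ = (y₀ : PSL2)⁻¹ * ((y₀ : PSL2) * j * (y₀ : PSL2)⁻¹) * (y.1 : PSL2) := by rw [show (y.1 : PSL2) * j * (y.1 : PSL2)⁻¹ = (y₀ : PSL2) * j * (y₀ : PSL2)⁻¹ from hy.2]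
          _ = _ := by group
    · intro y y' h
      exact Subtype.ext (Subtype.ext (mul_left_cancel (congrArg Subtype.val h)))
  have hT : T.card ≤ 6 := Finset.card_le_six
  have hN : Nat.card N ≤ 4 * 6 := by
    rw [Nat.card_eq_fintype_card]
    exact (Finset.card_le_mul_card_image _ 4 hfib).trans
      (Nat.mul_le_mul_left _ ((Finset.card_le_card himg).trans hT))
  obtain ⟨m, hm⟩ := Subgroup.card_dvd_of_le (show (P : Subgroup PSL2) ≤ N from Subgroup.le_normalizer)
  rw [card_sylow_eq_four hq h8 P] at hm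
  refine ⟨m, ?_, hm⟩
  have h8m : ¬ 2 ∣ m := fun ⟨t, ht⟩ => h8 ((Dvd.intro t (by rw [hm, ht]; ring)).trans (Subgroup.card_subgroup_dvd_card N))
  have : m ≤ 6 := by omega
  interval_cases m <;> simp_all

set_option maxHeartbeats 800000 in
theorem isCyclic_of_normalized (hq : Odd (Fintype.card F))
    (h8 : ¬ 8 ∣ Nat.card PSL2) (P : Sylow 2 PSL2) {O : Subgroup PSL2} (hO : Odd (Nat.card O))
    (hPO : (P : Subgroup PSL2) ≤ Subgroup.normalizer (O : Set PSL2)) : IsCyclic O := by
  classical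
  obtain ⟨p, hp⟩ := CharP.exists F
  have : Fact p.Prime := ⟨CharP.char_is_prime F p⟩
  obtain ⟨f, -, hf⟩ := FiniteField.card F p
  have hpodd : Odd p := (Fact.out : p.Prime).odd_of_ne_two fun e => by
    subst e
    rw [hf] at hq
    exact absurd hq (by rw [Nat.not_odd_iff_even]; exact (Nat.even_pow' f.ne_zero).2 even_two)
  set M := O ⊔ (P : Subgroup PSL2)
  have hOM : O ≤ M := le_sup_left
  have hPM : (P : Subgroup PSL2) ≤ M := le_sup_right
  have h4M : 4 ∣ Nat.card M := card_sylow_eq_four hq h8 P ▸ Subgroup.card_dvd_of_le hPM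
  have hn8 : ¬ 8 ∣ Nat.card M := fun h => h8 (h.trans (Subgroup.card_subgroup_dvd_card M))
  have hnorm : (O.subgroupOf M).Normal :=
    Subgroup.normal_subgroupOf_of_le_normalizer (sup_le Subgroup.le_normalizer hPO)
  let OM := O.subgroupOf M
  have hcardOM : Nat.card OM = Nat.card O := Nat.card_congr (Subgroup.subgroupOfEquivOfLe hOM).toEquiv
  have hodd' : Odd (Nat.card OM) := hcardOM ▸ hO
  have hback : IsCyclic OM → IsCyclic O := fun h =>
    isCyclic_of_surjective (Subgroup.subgroupOfEquivOfLe hOM) (Subgroup.subgroupOfEquivOfLe hOM).surjective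
  have hsimple : IsSimpleGroup M → IsCyclic O := fun h => by
    rcases hnorm.eq_bot_or_eq_top with h1 | h1
    · refine hback ?_
      rw [show OM = ⊥ from h1]; infer_instance
    · rw [show OM = ⊤ from h1, Subgroup.card_top] at hodd'
      exact absurd (dvd_trans (by norm_num : 2 ∣ 4) h4M) (by rw [Nat.odd_iff] at hodd'; omega)
  have hsmall : Nat.card M = 12 → IsCyclic O := fun h => by
    have hd := Subgroup.card_subgroup_dvd_card OM
    rw [h] at hd
    have h13 : ∀ c : ℕ, c ∣ 12 → c % 2 = 1 → c = 1 ∨ c = 3 := fun c hc hc2 => by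
      have := Nat.le_of_dvd (by norm_num) hc
      interval_cases c <;> omega
    rcases h13 _ hd (Nat.odd_iff.1 hodd') with h1 | h1
    · refine hback ?_
      rw [Subgroup.eq_bot_of_card_le OM h1.le]; infer_instance
    · have : Fact (Nat.Prime 3) := ⟨Nat.prime_three⟩
      exact hback (isCyclic_of_prime_card h1)
  rcases CfsgLib.PSL2.dickson_psl p M with ⟨x, hx⟩ | ⟨k, -, ⟨hcyc, -⟩ | ⟨⟨e⟩⟩⟩ | ⟨⟨e⟩⟩ | ⟨⟨e⟩⟩ | ⟨⟨e⟩⟩ | ⟨S, -, hS⟩
  · exfalso
    have hle : M ≤ CfsgLib.PSL2.pslPointStab x := fun g hg => CfsgLib.PSL2.mem_pslPointStab.2 (hx g hg)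
    have h1 := h4M.trans (Subgroup.card_dvd_of_le hle)
    have h2 := CfsgLib.PSL2.card_pslPointStab (F := F) x
    have h3 := CfsgLib.PSL2.card_psl (F := F)
    rw [CfsgLib.PSL2.gcd_eq_two hq] at h2 h3
    have e8 : 8 ∣ Fintype.card F * (Fintype.card F - 1) := by rw [← h2]; exact Nat.mul_dvd_mul_left 2 h1
    have e2 : 2 ∣ Fintype.card F + 1 := hq.add_one.two_dvd
    have e16 : 2 * 8 ∣ 2 * Nat.card PSL2 := by rw [h3]; exact Nat.mul_dvd_mul e2 e8
    exact h8 (Nat.dvd_of_mul_dvd_mul_left two_pos e16)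
  · exfalso
    obtain ⟨i, j, hi, hj, hi1, hj1, hij, hii, hjj, -, -⟩ := not_isCyclic_sylow hq h8 P
    have : IsCyclic M := hcyc
    have ho : ∀ {u : PSL2}, (hu : u ∈ (P : Subgroup PSL2)) → u ≠ 1 → u * u = 1 → orderOf (⟨u, hPM hu⟩ : M) = 2 :=
      fun hu h1 h2 => by
        rw [Subgroup.orderOf_mk]
        exact orderOf_eq_prime (by rw [pow_two]; exact h2) h1
    exact hij (congrArg Subtype.val (CfsgLib.PSL2.eq_of_orderOf_two (ho hi hi1 hii) (ho hj hj1 hjj)))
  · exact hback (isCyclic_odd_of_dihedral e OM hodd')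
  · refine hsmall ?_
    rw [Nat.card_congr e.toEquiv, nat_card_alternatingGroup, Nat.card_fin]
    rfl
  · exfalso
    apply hn8
    rw [Nat.card_congr e.toEquiv, Nat.card_perm, Nat.card_fin]
    exact ⟨3, rfl⟩
  · have := alternatingGroup.isSimpleGroup_five
    exact hsimple (e.isSimpleGroup)
  · have := Fintype.ofFinite S
    obtain ⟨k, hk1, hk⟩ := FiniteField.card S p
    have hSodd : Odd (Fintype.card S) := by rw [hk]; exact hpodd.pow
    have hpsl := CfsgLib.PSL2.card_psl (F := S)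
    rw [CfsgLib.PSL2.gcd_eq_two hSodd] at hpsl
    rcases hS with ⟨⟨e⟩⟩ | ⟨⟨e⟩⟩
    · by_cases h4 : 4 ≤ Fintype.card S
      · have := (CfsgLib.Recog.ClassSizesPSLTwoSplit.psl_perfect (F := S) h4).1
        exact hsimple e.isSimpleGroup
      · have h3 : Fintype.card S = 3 := by
          have := Fintype.one_lt_card (α := S)
          rw [Nat.odd_iff] at hSodd
          omega
        refine hsmall ?_
        rw [Nat.card_congr e.toEquiv]
        rw [h3] at hpsl
        omega
    · exfalso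
      apply hn8
      rw [Nat.card_congr e.toEquiv, CfsgLib.PSL2.card_pgl]
      have h := eight_dvd_sq_sub_one hSodd
      first
        | exact Dvd.dvd.mul_left h _
        | (rw [mul_comm (Fintype.card S + 1), mul_assoc, mul_comm (Fintype.card S)]
           exact Dvd.dvd.mul_right h _)
        | (rw [mul_left_comm, mul_comm (Fintype.card S + 1)]; exact Dvd.dvd.mul_left h _)

theorem complement_decomp {G : Type*} [Group G] [Finite G] {L P A : Subgroup G} {K : Subgroup L}
    (hPL : P ≤ L) (hc : Subgroup.IsComplement' K (P.subgroupOf L)) (hPA : P ≤ A) (hAL : A ≤ L) :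
    Nat.card A = Nat.card (A ⊓ K.map L.subtype : Subgroup G) * Nat.card P ∧
      A = (A ⊓ K.map L.subtype) ⊔ P := by
  set O := K.map L.subtype
  have hsurj : ∀ a ∈ A, ∃ o ∈ A ⊓ O, ∃ u ∈ P, o * u = a := by
    intro a ha
    obtain ⟨⟨⟨k, hk⟩, ⟨u, hu⟩⟩, hku⟩ := hc.2 ⟨a, hAL ha⟩
    have hku' : (k : G) * (u : G) = a := congrArg Subtype.val hku
    refine ⟨k, ⟨?_, ⟨k, hk, rfl⟩⟩, u, hu, hku'⟩
    show (k : G) ∈ A
    rw [eq_mul_inv_of_mul_eq hku']
    exact mul_mem ha (inv_mem (hPA hu))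
  refine ⟨?_, le_antisymm (fun a ha => ?_) (sup_le inf_le_left hPA)⟩
  · rw [← Nat.card_prod]
    refine (Nat.card_congr (Equiv.ofBijective
      (fun x : (A ⊓ O : Subgroup G) × P => (⟨(x.1 : G) * (x.2 : G), mul_mem x.1.2.1 (hPA x.2.2)⟩ : A))
      ⟨?_, ?_⟩)).symm
    · rintro ⟨⟨o, ho⟩, ⟨u, hu⟩⟩ ⟨⟨o', ho'⟩, ⟨u', hu'⟩⟩ h
      obtain ⟨k, hk, rfl⟩ := ho.2
      obtain ⟨k', hk', rfl⟩ := ho'.2
      have h' : (k : G) * u = (k' : G) * u' := congrArg Subtype.val h
      have := hc.1 (a₁ := (⟨k, hk⟩, ⟨⟨u, hPL hu⟩, hu⟩)) (a₂ := (⟨k', hk'⟩, ⟨⟨u', hPL hu'⟩, hu'⟩))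
        (Subtype.ext h')
      simp only [Prod.mk.injEq, Subtype.mk.injEq] at this ⊢
      exact ⟨by rw [this.1], congrArg (fun x : P.subgroupOf L => ((x : L) : G)) this.2⟩
    · rintro ⟨a, ha⟩
      obtain ⟨o, ho, u, hu, h⟩ := hsurj a ha
      exact ⟨(⟨o, ho⟩, ⟨u, hu⟩), Subtype.ext h⟩
  · obtain ⟨o, ho, u, hu, rfl⟩ := hsurj a ha
    exact mul_mem (Subgroup.mem_sup_left ho) (Subgroup.mem_sup_right hu)

theorem isPronormal_klein (hq : Odd (Fintype.card F))
    (h8 : ¬ 8 ∣ Nat.card PSL2) {H : Subgroup PSL2} (P : Sylow 2 PSL2) (hPH : (P : Subgroup PSL2) ≤ H) :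
    Cfsg.IsPronormal H := by
  refine isPronormal_of_sylow P hPH fun z hz => ?_
  set L := H ⊔ H.map (MulAut.conj z).toMonoidHom with hL
  by_cases hzL : z ∈ L
  · exact ⟨z, hzL, rfl⟩
  refine ⟨1, one_mem _, ?_⟩
  rw [map_conj_eq_of_mem_normalizer (one_mem _)]
  set N := Subgroup.normalizer ((P : Subgroup PSL2) : Set PSL2) with hNdef
  have hPL : (P : Subgroup PSL2) ≤ L := hPH.trans le_sup_left
  -- `N ⊓ L = P`
  have hNL : N ⊓ L ≤ (P : Subgroup PSL2) := by
    obtain ⟨m, hm, hN⟩ := card_normalizer_sylow hq h8 P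
    have hP4 := card_sylow_eq_four hq h8 P
    have hle : (P : Subgroup PSL2) ≤ N ⊓ L := le_inf Subgroup.le_normalizer hPL
    obtain ⟨m', hm'⟩ := Subgroup.card_dvd_of_le hle
    rw [hP4] at hm'
    have hdm : m' ∣ m := by
      have h := Subgroup.card_dvd_of_le (show N ⊓ L ≤ N from inf_le_left)
      rw [hm', hN] at h
      exact Nat.dvd_of_mul_dvd_mul_left (by norm_num) h
    have hne : m' ≠ m := fun h => hzL (by
      have := Subgroup.eq_of_le_of_card_ge (show N ⊓ L ≤ N from inf_le_left) (by rw [hN, hm', h])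
      exact (this.ge hz).2)
    have h1 : m' = 1 := by
      rcases hm with rfl | rfl | rfl
      · exact Nat.dvd_one.1 hdm
      · exact ((Nat.dvd_prime Nat.prime_three).1 hdm).resolve_right hne
      · exact ((Nat.dvd_prime (by norm_num)).1 hdm).resolve_right hne
    exact (Subgroup.eq_of_le_of_card_ge hle (by rw [hm', h1, hP4])).ge
  have hPab : ∀ x ∈ (P : Subgroup PSL2), ∀ y ∈ (P : Subgroup PSL2), x * y = y * x := by
    intro x hx y hy
    have : Fact (Nat.Prime 2) := ⟨Nat.prime_two⟩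
    have h := IsPGroup.commutative_of_card_eq_prime_sq (p := 2) (G := (P : Subgroup PSL2))
      (by rw [card_sylow_eq_four hq h8 P]; norm_num)
    exact congrArg Subtype.val (h ⟨x, hx⟩ ⟨y, hy⟩)
  let PL : Sylow 2 L := P.subtype hPL
  have hcent : Subgroup.normalizer ((PL : Subgroup L) : Set L) ≤ Subgroup.centralizer ((PL : Subgroup L) : Set L) := by
    intro x hx
    have hx' : (x : PSL2) ∈ (P : Subgroup PSL2) := by
      refine hNL ⟨mem_normalizer_of_conj fun s hs => ?_, x.2⟩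
      exact (Subgroup.mem_normalizer_iff.1 hx ⟨s, hPL hs⟩).1 hs
    rw [Subgroup.mem_centralizer_iff]
    exact fun s hs => Subtype.ext (hPab _ hs _ hx')
  have hc := MonoidHom.ker_transferSylow_isComplement' PL hcent
  set K := (MonoidHom.transferSylow PL hcent).ker with hK
  have hKn : K.Normal := MonoidHom.normal_ker _
  clear_value K
  set O := K.map L.subtype with hOdef
  have hOodd : Odd (Nat.card O) := by
    rw [hOdef, Subgroup.card_map_of_injective L.subtype_injective]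
    rw [Nat.odd_iff]
    have h : Nat.card K = (PL : Subgroup L).index := hc.index_eq_card.symm
    rw [h]
    have := PL.not_dvd_index
    omega
  have hOL : O ≤ L := Subgroup.map_subtype_le K
  have hcyc := isCyclic_of_normalized hq h8 P hOodd (fun u hu => mem_normalizer_of_conj fun s hs => by
    obtain ⟨s', hs', rfl⟩ := hs
    exact ⟨⟨u, hPL hu⟩ * s' * ⟨u, hPL hu⟩⁻¹, hKn.conj_mem s' hs' _, rfl⟩)
  have hdec : ∀ A : Subgroup PSL2, (P : Subgroup PSL2) ≤ A → A ≤ L →
      Nat.card A = Nat.card (A ⊓ O : Subgroup PSL2) * 4 ∧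
      A = (A ⊓ O) ⊔ (P : Subgroup PSL2) := fun A hPA hAL => by
    obtain ⟨h1, h2⟩ := complement_decomp hPL hc hPA hAL
    exact ⟨by rw [h1, card_sylow_eq_four hq h8 P], h2⟩
  set H' := H.map (MulAut.conj z).toMonoidHom
  have hPH' : (P : Subgroup PSL2) ≤ H' := by
    rw [← map_conj_eq_of_mem_normalizer hz]
    exact Subgroup.map_mono hPH
  obtain ⟨h1, h1'⟩ := hdec H hPH le_sup_left
  obtain ⟨h2, h2'⟩ := hdec H' hPH' le_sup_right
  have hcard : Nat.card H' = Nat.card H := Subgroup.card_map_of_injective (MulAut.conj z).injective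
  have : H ⊓ O = H' ⊓ O := eq_of_card_eq_of_cyclic inf_le_right inf_le_right (by omega)
  rw [h1', this, ← h2']

end CfsgLib.PronormalPSL
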